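import Cfsg.Agent.H449.Reg.Pre

/-!
# S3691: the residual cases of `PΩ^ε_{2m}(q)` (helper964)

* `ResV hI X v` : `X` fixes the nonsingular point `⟨v⟩` and contains the Siegel transformations supported by `v^⊥`
  (these generate the commutator subgroup of the stabiliser of `v` in `Ω(Q)`; all characteristics): F-D-, F-D+1
* `ResP hI X P` : `X` fixes the anisotropic plane `P` and contains the Siegel transformations supported by `P^⊥`: F-D+2
-/

set_option autoImplicit false
set_option linter.unusedSectionVars false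

namespace Cfsg.Agent.H964.Rg

open Module QuadraticMap Cfsg Cfsg.Geo Cfsg.Agent.LieClassical.OrthCore Cfsg.Agent.LieClassical.OrthTrans
  Cfsg.Agent.H454.Reg Cfsg.Agent.H884.El Cfsg.Agent.H955 Cfsg.Agent.H449.Reg
open Cfsg.Agent.LieClassical.OrthFinite (glEquiv)
open scoped MatrixGroups Matrix

universe u v

variable {ι : Type} [Fintype ι] [DecidableEq ι] {F : Type v} [Field F] {Q : QuadraticForm F (ι → F)}
  {G : Type u} [Group G] {T : Subgroup G} [T.Normal] {hG : Good Q} {eT : T ≃* POmega F (⇑Q)}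

/-- **the residual cases F-D- and F-D+1** -/
structure ResV (hI : Ind (eP hG eT)) (X : Subgroup G) (v : ι → F) : Prop where
  ne : Q v ≠ 0
  fix : ∀ x ∈ X, act hI x (F ∙ v) = F ∙ v
  sieg : ∀ (u w : ι → F) (hu : Q u = 0) (hw : polar Q u w = 0), polar Q u v = 0 → polar Q w v = 0 →
    (glEquiv ι F).symm (siegel Q u w hu hw) ∈ preG eT X

/-- **the residual case F-D+2** -/
structure ResP (hI : Ind (eP hG eT)) (X : Subgroup G) (P : Submodule F (ι → F)) : Prop where
  rank : finrank F P = 2
  aniso : ∀ x ∈ P, Q x = 0 → x = 0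
  fix : ∀ x ∈ X, act hI x P = P
  sieg : ∀ (u w : ι → F) (hu : Q u = 0) (hw : polar Q u w = 0), u ∈ perp Q P → w ∈ perp Q P →
    (glEquiv ι F).symm (siegel Q u w hu hw) ∈ preG eT X

end Cfsg.Agent.H964.Rg
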