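import Cfsg.Agent.H449.Reg.OddB
import Cfsg.Agent.H449.Reg.Semi2
import Cfsg.Agent.H964.Rg.Fld
import Cfsg.Agent.H964.Rg.Res

/-!
# S3691, sections 6, 7: the context of `PΩ^ε_{2m}(q)` (helper964)

* `Cx hI X Y p f m N` : a factorization of a group with socle `PΩ(Q)`, `dim = 2 m`, `|F| = p ^ f`; the primes of even order
  `m < k ≤ N` have cyclic Sylow subgroups (`N = 2 m` for minus type, `N = 2 m - 2` for plus type)
* `Hs T X q k` : `|X ∩ T|` is divisible by a prime `r`, `ord_r(q) = k`, which does not divide `|Out T|`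
-/

set_option autoImplicit false
set_option linter.unusedSectionVars false

namespace Cfsg.Agent.H964.Rg

open Module QuadraticMap Cfsg Cfsg.Geo Cfsg.Agent.LieClassical.OrthCore Cfsg.Agent.LieClassical.OrthTrans
  Cfsg.Agent.H454.Reg Cfsg.Agent.H884.El Cfsg.Agent.H955 Cfsg.Agent.H954.TSing Cfsg.Agent.H193.Dg Cfsg.Agent.H851.Dg
  Cfsg.Agent.H449.Reg
open Cfsg.Agent.H951 (fx cm Inv)
open Cfsg.Agent.H278.Cov (Red Ext Num)
open Cfsg.Agent.LieClassical.OrthFinite (glEquiv glEquiv_apply)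
open scoped MatrixGroups Matrix

universe u v

variable {ι : Type} [Fintype ι] [DecidableEq ι] {F : Type v} [Field F] [Fintype F] {Q : QuadraticForm F (ι → F)}
variable {G : Type u} [Group G] [Finite G] {T : Subgroup G} [T.Normal] {hG : Good Q} {eT : T ≃* POmega F (⇑Q)}
  {hI : Ind (eP hG eT)} {X Y : Subgroup G} {p f m N : ℕ}

/-- a factorization of a group with socle `PΩ(Q)`, `dim = 2 m` -/
structure Cx (hI : Ind (eP hG eT)) (X Y : Subgroup G) (p f m N : ℕ) : Prop where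
  fac : Fac T X Y
  prime : p.Prime
  pos : 1 ≤ f
  card : Nat.card F = p ^ f
  dim : Fintype.card ι = 2 * m
  data : H390.Lift.Data Q
  le : N ≤ 2 * m
  dvd : ∀ k r a, Even k → 3 ≤ k → m < k → k ≤ N → PP p (f * k) r → r ^ a ∣ (p ^ f) ^ k - 1 → r ^ a ∣ Nat.card T
  out : ∀ k r, 3 ≤ k → PP p (f * k) r → ¬ r ∣ Nat.card (Cfsg.Out T)

/-- the order of `X ∩ T` is divisible by a prime of order `k` -/
def Hs (T : Subgroup G) (X : Subgroup G) (q k : ℕ) : Prop :=
  ∃ r, PP q k r ∧ ¬ r ∣ Nat.card (Cfsg.Out T) ∧ r ∣ Nat.card (X.subgroupOf T)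

namespace Cx

theorem symm (h : Cx hI X Y p f m N) : Cx hI Y X p f m N :=
  ⟨h.fac.symm, h.prime, h.pos, h.card, h.dim, h.data, h.le, h.dvd, h.out⟩

theorem fcard (h : Cx hI X Y p f m N) : Fintype.card F = p ^ f := by rw [← Nat.card_eq_fintype_card]; exact h.card

theorem finrank_V (h : Cx hI X Y p f m N) : finrank F (ι → F) = 2 * m := by
  rw [Module.finrank_fintype_fun_eq_card, h.dim]

theorem pp (h : Cx hI X Y p f m N) {k r : ℕ} (hr : PP p (f * k) r) : PP (Nat.card F) k r := by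
  rw [h.card]; exact hr.of_pow h.pos

theorem hs_of_has (h : Cx hI X Y p f m N) {k : ℕ} (hk : 3 ≤ k) (hH : Has T X p f k) : Hs T X (Nat.card F) k := by
  obtain ⟨r, hr, hd⟩ := hH
  exact ⟨r, h.pp hr, h.out k r hk hr, hd⟩

/-- the Sylow subgroups for large primitive primes are cyclic -/
theorem cyc (h : Cx hI X Y p f m N) {k r : ℕ} (hr : PP (Nat.card F) k r) (hk : 2 ≤ k) (hmk : m < k)
    (P : Subgroup T) (hP : IsPGroup r P) : IsCyclic P := by
  have h1 : CycP r (⊤ : Subgroup (POmega F (⇑Q))) := cycP_of hr hk (fun g _ hgr hg1 =>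
    (elt_data hr hk (by rw [h.dim]; omega) (by rw [← H251.GeoCard.toLin_pow, hgr]; exact lin_one)
      (lin_ne_one hg1)).2.1)
  let φ : T →* (⊤ : Subgroup (POmega F (⇑Q))) := (Subgroup.topEquiv.symm : POmega F (⇑Q) ≃* _).toMonoidHom.comp eT.toMonoidHom
  have hφ : Function.Injective φ := Subgroup.topEquiv.symm.injective.comp eT.injective
  have h2 := h1 (P.map φ) (hP.map φ)
  exact isCyclic_of_surjective (P.equivMapOfInjective φ hφ).symm.toMonoidHom (MulEquiv.surjective _)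

/-- no prime of order `k > m` divides both orders -/
theorem not_both (h : Cx hI X Y p f m N) {k r : ℕ} (hr : PP (Nat.card F) k r) (hk : 2 ≤ k) (hmk : m < k)
    (hX : r ∣ Nat.card (X.subgroupOf T)) (hY : r ∣ Nat.card (Y.subgroupOf T)) : False :=
  h.fac.not_both hr.prime (h.cyc hr hk hmk) hX hY

/-- a large primitive prime of even order lies in one of the factors with its full power -/
theorem side (h : Cx hI X Y p f m N) {k r : ℕ} (he : Even k) (hk : 3 ≤ k) (hmk : m < k) (hkN : k ≤ N)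
    (hr : PP p (f * k) r) :
    (∀ a, r ^ a ∣ (p ^ f) ^ k - 1 → r ^ a ∣ Nat.card (X.subgroupOf T)) ∨
      (∀ a, r ^ a ∣ (p ^ f) ^ k - 1 → r ^ a ∣ Nat.card (Y.subgroupOf T)) := by
  have hfT : Finite T := inferInstance
  have hX0 : Nat.card (X.subgroupOf T) ≠ 0 := Nat.card_pos.ne'
  have hY0 : Nat.card (Y.subgroupOf T) ≠ 0 := Nat.card_pos.ne'
  have hT0 : Nat.card T ≠ 0 := Nat.card_pos.ne'
  have hv := h.fac.val_eq (h.out _ r hk hr)
  by_cases hX : r ∣ Nat.card (X.subgroupOf T)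
  · left
    have hY : ¬ r ∣ Nat.card (Y.subgroupOf T) := fun hY => h.not_both (h.pp hr) (by omega) hmk hX hY
    rw [Nat.factorization_eq_zero_of_not_dvd hY, add_zero] at hv
    intro a ha
    have h1 := h.dvd k r a he hk hmk hkN hr ha
    rw [hr.prime.pow_dvd_iff_le_factorization hT0] at h1
    rw [hr.prime.pow_dvd_iff_le_factorization hX0, hv]
    exact h1
  · right
    rw [Nat.factorization_eq_zero_of_not_dvd hX, zero_add] at hv
    intro a ha
    have h1 := h.dvd k r a he hk hmk hkN hr ha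
    rw [hr.prime.pow_dvd_iff_le_factorization hT0] at h1
    rw [hr.prime.pow_dvd_iff_le_factorization hY0, hv]
    exact h1

theorem big_side (h : Cx hI X Y p f m N) {k : ℕ} (he : Even k) (hk : 3 ≤ k) (hmk : m < k) (hkN : k ≤ N)
    (hL : LP p f k) : Big T X p f k ∨ Big T Y p f k := by
  obtain ⟨r, a, hr, hb, hd⟩ := hL
  rcases h.side he hk hmk hkN hr with h1 | h1
  · exact Or.inl ⟨r, a, hr, hb, hd, h1 a hd⟩
  · exact Or.inr ⟨r, a, hr, hb, hd, h1 a hd⟩

/-- a factor contains a prime of order `k` -/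
theorem hs_side (h : Cx hI X Y p f m N) {k : ℕ} (hL : ∃ r, PP (Nat.card F) k r ∧ ¬ r ∣ Nat.card (Cfsg.Out T) ∧ r ∣ Nat.card T) :
    Hs T X (Nat.card F) k ∨ Hs T Y (Nat.card F) k := by
  obtain ⟨r, hr, ho, hd⟩ := hL
  rcases h.fac.prime_dvd hr.prime hd ho with h1 | h1
  · exact Or.inl ⟨r, hr, ho, h1⟩
  · exact Or.inr ⟨r, hr, ho, h1⟩

theorem elt (h : Cx hI X Y p f m N) {k r a : ℕ} (hr : PP p (f * k) r) (hk : 2 ≤ k) (hmk : m < k)
    (hd : r ^ a ∣ Nat.card (X.subgroupOf T)) : ∃ g ∈ preG eT X, orderOf g = r ^ a := by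
  have h1 := hr.lt (by have := Nat.mul_le_mul h.pos hk; omega)
  have h2 := Nat.mul_le_mul h.pos hk
  exact exists_pow h.data hr.prime (by omega) (h.cyc (h.pp hr) hk hmk) hd

/-- an element of prime order -/
theorem elt1 (_h : Cx hI X Y p f m N) {k : ℕ} (hk : 2 ≤ k) (hH : Hs T X (Nat.card F) k) :
    ∃ r, PP (Nat.card F) k r ∧ r ∣ Nat.card (preG eT X) ∧ ∃ g ∈ preG eT X, Iso Q (lin g) r ∧ g ^ r = 1 ∧ g ≠ 1 := by
  obtain ⟨r, hr, -, hd⟩ := hH
  have h1 : r ∣ Nat.card (preG eT X) := hd.trans card_dvd_preG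
  obtain ⟨g, hg, h2, h3, h4⟩ := exists_elt (Q := Q) (preG_le (eT := eT) (X := X)) hr hk h1
  exact ⟨r, hr, h1, g, hg, h2, h3, h4⟩

/-- **the list lemma** for a factor containing a large power of a primitive prime -/
theorem list (h : Cx hI X Y p f m N) (hP : H659.CovCore.S5948Stmt.{v}) (hm : 5 ≤ m) {k : ℕ} (hk : k ≤ 2 * m)
    (hmk : m < k) (hB : Big T X p f k) : Red (preG eT X) ∨ Ext (Nat.gcd (2 * m) k) (preG eT X) := by
  obtain ⟨r, a, hr, hb, hd, hdX⟩ := hB
  obtain ⟨g, hg, ho⟩ := h.elt hr (by omega) hmk hdX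
  have hnum := num_of h.prime h.pos hr (n := 2 * m) (by omega) (by omega) (by omega) hb hd
  rcases og_iso hP (k := k) (H884.OddForm.isNondegenerate_of_nondeg _ hG.nondeg) (H := preG eT X)
    (fun x hx => LieClassical.OrthFinite.mem_isometryGroup_iff.1 (preG_le hx)) hg (by rw [h.dim, ho, h.fcard]; exact hnum)
    with h1 | h1 | h1
  · exact Or.inl h1
  · right
    rw [h.dim] at h1
    exact h1
  · exact absurd h1 (not_omega_le h.fac.not_le_left)

/-- **a reducible factor fixes a subspace** of the fixed space of each of its elements of prime order `r`, `ord_r(q) > m` -/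
theorem red_fixed (h : Cx hI X Y p f m N) {k r : ℕ} (hr : PP (Nat.card F) k r) (hk : 2 ≤ k) (hmk : m < k) {g : GL ι F}
    (hg : g ∈ preG eT X) (hgr : g ^ r = 1) (hg1 : g ≠ 1) (hred : Red (preG eT X)) :
    ∃ S : Submodule F (ι → F), S ≠ ⊥ ∧ S ≤ fx (lin g) ∧ ∀ y ∈ X, act hI y S = S :=
  H449.Reg.red_fixed hI hr hk (by rw [h.dim]; omega) hg hgr hg1 hred

theorem inv_le (_h : Cx hI X Y p f m N) {S : Submodule F (ι → F)} (hS : ∀ y ∈ X, act hI y S = S) :
    preG eT X ≤ subspaceStabilizer S := (inv0_iff hG).1 fun _ ht => hS _ ht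

end Cx

end Cfsg.Agent.H964.Rg
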