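import Cfsg.Agent.H964.Rg.End
import Cfsg.Agent.H964.Rg.Ctx

/-!
# S3691, sections 6, 7: list properties of the sections (helper964)

* `Ex2 H` : `H` normalises a field of matrices of degree two;  `Irr H`
* `SLO Q H n d`, `SLS Q H n d` : the list property for the section groups of dimension `n`, fields of prime degree `s ∣ d`
-/

set_option autoImplicit false
set_option linter.unusedSectionVars false

namespace Cfsg.Agent.H964.Rg

open Module QuadraticMap Cfsg Cfsg.Geo Cfsg.Agent.LieClassical.OrthCore Cfsg.Agent.LieClassical.OrthTrans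
  Cfsg.Agent.H454.Reg Cfsg.Agent.H884.El Cfsg.Agent.H955 Cfsg.Agent.H954.TSing Cfsg.Agent.H449.Reg
open Cfsg.Agent.H951 (fx cm Inv)
open Cfsg.Agent.H278.Cov (Red Ext Num)
open scoped MatrixGroups Matrix

universe u v

variable {ι : Type} [Fintype ι] [DecidableEq ι] {F : Type v} [Field F] [Fintype F] {Q : QuadraticForm F (ι → F)}
  {H : Subgroup (GL ι F)}

/-- `H` normalises a field of degree two -/
def Ex2 (H : Subgroup (GL ι F)) : Prop := ∃ K : Subalgebra F (Matrix ι ι F), IsFieldSubalgebra 2 K ∧ H ≤ subalgebraNormalizer K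

/-- no invariant subspaces -/
def RedV {V : Type v} [AddCommGroup V] [Module F V] (A : Subgroup (V ≃ₗ[F] V)) : Prop :=
  ∃ W : Submodule F V, W ≠ ⊥ ∧ W ≠ ⊤ ∧ ∀ h ∈ A, ∀ w ∈ W, h w ∈ W

/-- the list property, isometric sections -/
def SLO (Q : QuadraticForm F (ι → F)) (H : Subgroup (GL ι F)) (n d : ℕ) : Prop :=
  ∀ (U R : Submodule F (ι → F)) (hS : Sec Q H U R), finrank F U = n → finrank F R ≤ 1 → (∀ a ∈ R, Q a = 0) →
    RedV (secG hS) ∨ (∃ s, s.Prime ∧ s ∣ d ∧ AExt s (secG hS)) ∨ E (res Q U) ≤ secG hS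

/-- the list property, symplectic sections -/
def SLS (Q : QuadraticForm F (ι → F)) (H : Subgroup (GL ι F)) (n d : ℕ) : Prop :=
  ∀ (U R : Submodule F (ι → F)) (hS : Sec Q H U R), finrank F U = n → finrank F R ≤ 1 →
    RedV (secG hS) ∨ (∃ s, s.Prime ∧ s ∣ d ∧ AExt s (secG hS)) ∨
    (∀ x : U ≃ₗ[F] U, (∀ u v, polar (res Q U) (x u) (x v) = polar (res Q U) u v) → x ∈ secG hS) ∨
    (∃ Q' : QuadraticForm F U, (∀ u v, polar Q' u v = polar (res Q U) u v) ∧ E Q' ≤ secG hS)

/-- characteristic two, a nonsingular point: the section group contains the symplectic group -/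
theorem sp_of_sls {U : Submodule F (ι → F)} {v : ι → F} {k : ℕ} {G : Type u} [Group G] {T : Subgroup G} [T.Normal] {hG : Good Q}
    {eT : T ≃* POmega F (⇑Q)} {hI : Ind (eP hG eT)} {X : Subgroup G}
    (h2 : (2 : F) = 0) (hv : Q v ≠ 0) (hM : Mx hI X (F ∙ v) k) (hk : 2 < k)
    (hU : U ⊔ (F ∙ v) = perp Q (F ∙ v)) (hS : Sec Q (preG eT X) U (F ∙ v)) (h6 : 6 ≤ finrank F U) {n d : ℕ}
    (hn : finrank F U = n) (hL : SLS Q (preG eT X) n d) (hirr : ¬ RedV (secG hS))
    (hext : ∀ s, s.Prime → s ∣ d → ¬ AExt s (secG hS)) :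
    ∀ x : U ≃ₗ[F] U, (∀ u v, polar (res Q U) (x u) (x v) = polar (res Q U) u v) → x ∈ secG hS := by
  have hv0 : v ≠ 0 := by
    rintro rfl
    exact hv (QuadraticMap.map_zero Q)
  rcases hL U (F ∙ v) hS hn (by rw [finrank_span_singleton hv0]) with h1 | ⟨s, hs, hsd, h1⟩ | h1 | ⟨Q', hQ', h1⟩
  · exact absurd h1 hirr
  · exact absurd h1 (hext s hs hsd)
  · exact h1
  · have hnd : Nondeg Q' := fun x hx => hS.nd x fun y => by rw [← hQ']; exact hx y
    rcases H177.Rg.sp_over h2 hnd h6 (fun h hh u w => by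
      rw [hQ', hQ']; exact hS.polar_eq h hh u w) h1 with h3 | h3
    · exact (no_form h2 hv hM hk hU hS hQ' h3).elim
    · intro x hx
      exact h3 x fun u w => by rw [hQ', hQ']; exact hx u w

end Cfsg.Agent.H964.Rg
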