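import Cfsg.Agent.H964.Rg.Sec
import Cfsg.Agent.H964.Rg.Res
import Cfsg.Agent.H449.Reg.OddB

/-!
# S3691, sections 6, 7: the largest small subspace fixed by a reducible factor (helper964)
-/

set_option autoImplicit false
set_option linter.unusedSectionVars false

namespace Cfsg.Agent.H964.Rg

open Module QuadraticMap Cfsg Cfsg.Geo Cfsg.Agent.LieClassical.OrthCore Cfsg.Agent.LieClassical.OrthTrans
  Cfsg.Agent.H454.Reg Cfsg.Agent.H884.El Cfsg.Agent.H955 Cfsg.Agent.H954.TSing Cfsg.Agent.H449.Reg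
open Cfsg.Agent.H951 (fx cm Inv)
open Cfsg.Agent.H278.Cov (Red)
open Cfsg.Agent.LieClassical.OrthFinite (glEquiv glEquiv_apply)
open scoped MatrixGroups Matrix

universe u v

section geo

variable {ι : Type} [Fintype ι] [DecidableEq ι] {F : Type v} [Field F] [Fintype F] {Q : QuadraticForm F (ι → F)}
  {H : Subgroup (GL ι F)} {v : ι → F} {r : ℕ} {x : GL ι F}

theorem polar_fx_cm (hQ : Nondeg Q) (hx : Iso Q (lin x) r) {a u : ι → F} (ha : a ∈ fx (lin x)) (hu : u ∈ cm (lin x)) :
    polar Q a u = 0 := by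
  rw [← perp_cm hQ hx.iso hx.ne0 hx.pow] at ha
  rw [polar_comm]
  exact ha u hu

theorem finrank_cm (hx : Iso Q (lin x) r) (hfx : finrank F (fx (lin x)) = 2) :
    finrank F (cm (lin x)) + 2 = Fintype.card ι := by
  have h1 := hx.finrank_add
  rw [Module.finrank_fintype_fun_eq_card] at h1
  omega

/-- the section of an isotropic line -/
theorem sec_line (hQ : Nondeg Q) (hH : H ≤ isometryGroup F (⇑Q)) (hx : Iso Q (lin x) r)
    (hfx : finrank F (fx (lin x)) = 2) (hv0 : v ≠ 0) (hvv : polar Q v v = 0) (hvx : v ∈ fx (lin x))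
    (hst : H ≤ subspaceStabilizer (F ∙ v)) : Sec Q H (cm (lin x)) (F ∙ v) ∧ cm (lin x) ⊔ (F ∙ v) = perp Q (F ∙ v) := by
  have hc := H951.isCompl_fx_cm hx.ne0 hx.pow
  have hvle : F ∙ v ≤ fx (lin x) := (Submodule.span_singleton_le_iff_mem v _).2 hvx
  have h1 : cm (lin x) ⊔ (F ∙ v) = perp Q (F ∙ v) := by
    apply Submodule.eq_of_le_of_finrank_eq
    · refine sup_le (fun u hu a ha => polar_fx_cm hQ hx (hvle ha) hu) fun a ha b hb => ?_
      obtain ⟨c, rfl⟩ := Submodule.mem_span_singleton.1 ha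
      obtain ⟨d, rfl⟩ := Submodule.mem_span_singleton.1 hb
      rw [polar_smul_left, polar_smul_right, hvv, smul_zero, smul_zero]
    · have h2 := Submodule.finrank_sup_add_finrank_inf_eq (cm (lin x)) (F ∙ v)
      have h3 : cm (lin x) ⊓ (F ∙ v) = ⊥ := by
        rw [eq_bot_iff, ← hc.inf_eq_bot, inf_comm]
        exact inf_le_inf_right _ hvle
      rw [h3, finrank_bot, finrank_span_singleton hv0] at h2
      have h4 := finrank_cm hx hfx
      have h5 := finrank_perp hQ (F ∙ v)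
      rw [finrank_span_singleton hv0, Module.finrank_fintype_fun_eq_card] at h5
      omega
  refine ⟨⟨hH, nondeg_cm hQ hx.iso hx.ne0 hx.pow, fun a ha u hu => polar_fx_cm hQ hx (hvle ha) hu, ?_, hst, ?_⟩, h1⟩
  · intro a ha b hb
    obtain ⟨c, rfl⟩ := Submodule.mem_span_singleton.1 ha
    obtain ⟨d, rfl⟩ := Submodule.mem_span_singleton.1 hb
    rw [polar_smul_left, polar_smul_right, hvv, smul_zero, smul_zero]
  · rw [h1]
    exact stab_perp hH hst

/-- the section of the fixed plane -/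
theorem sec_plane (hQ : Nondeg Q) (hH : H ≤ isometryGroup F (⇑Q)) (hx : Iso Q (lin x) r)
    (hst : H ≤ subspaceStabilizer (fx (lin x))) :
    Sec Q H (cm (lin x)) ⊥ ∧ cm (lin x) ⊔ ⊥ = perp Q (fx (lin x)) := by
  have h1 : cm (lin x) ⊔ ⊥ = perp Q (fx (lin x)) := by
    rw [sup_bot_eq, perp_fx hQ hx.iso hx.ne0 hx.pow]
  refine ⟨⟨hH, nondeg_cm hQ hx.iso hx.ne0 hx.pow, ?_, ?_, ?_, ?_⟩, h1⟩
  · intro a ha u _
    rw [(Submodule.mem_bot F).1 ha, polar_zero_left]
  · intro a ha u _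
    rw [(Submodule.mem_bot F).1 ha, polar_zero_left]
  · intro g hg
    refine H884.OmegaGL.mem_subspaceStabilizer.2 fun w hw => ?_
    rw [(Submodule.mem_bot F).1 hw, map_zero]
    exact Submodule.zero_mem _
  · rw [h1]
    exact stab_perp hH hst

/-- the section of a nonsingular point, odd characteristic -/
theorem sec_perp (hQ : Nondeg Q) (hH : H ≤ isometryGroup F (⇑Q)) (h2 : (2 : F) ≠ 0) (hv : Q v ≠ 0)
    (hst : H ≤ subspaceStabilizer (F ∙ v)) :
    Sec Q H (perp Q (F ∙ v)) ⊥ ∧ perp Q (F ∙ v) ⊔ ⊥ = perp Q (F ∙ v) := by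
  refine ⟨⟨hH, nondeg_perp hQ (Ctx.nondeg_line h2 hv), ?_, ?_, ?_, ?_⟩, sup_bot_eq _⟩
  · intro a ha u _
    rw [(Submodule.mem_bot F).1 ha, polar_zero_left]
  · intro a ha u _
    rw [(Submodule.mem_bot F).1 ha, polar_zero_left]
  · intro g hg
    refine H884.OmegaGL.mem_subspaceStabilizer.2 fun w hw => ?_
    rw [(Submodule.mem_bot F).1 hw, map_zero]
    exact Submodule.zero_mem _
  · rw [sup_bot_eq]
    exact stab_perp hH hst

end geo

section mx

variable {ι : Type} [Fintype ι] [DecidableEq ι] {F : Type v} [Field F] [Fintype F] {Q : QuadraticForm F (ι → F)}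
variable {G : Type u} [Group G] {T : Subgroup G} [T.Normal] {hG : Good Q} {eT : T ≃* POmega F (⇑Q)}
  {hI : Ind (eP hG eT)} {X Y Z : Subgroup G} {k l r s : ℕ} {S : Submodule F (ι → F)}

/-- the largest small invariant subspace -/
structure Mx (hI : Ind (eP hG eT)) (Z : Subgroup G) (S : Submodule F (ι → F)) (k : ℕ) : Prop where
  ne : S ≠ ⊥
  fix : ∀ z ∈ Z, act hI z S = S
  max : ∀ W : Submodule F (ι → F), preG eT Z ≤ subspaceStabilizer W → finrank F W < k → W ≤ S

theorem Mx.le (h : Mx hI Z S k) : preG eT Z ≤ subspaceStabilizer S := (inv0_iff hG).1 fun _ ht => h.fix _ ht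

/-- **the largest fixed subspace of a reducible factor** -/
theorem exists_mx (hI : Ind (eP hG eT)) (hr : PP (Nat.card F) k r) (hk : 2 ≤ k) (hn : Fintype.card ι < 2 * k) {x : GL ι F}
    (hx : x ∈ preG eT X) (hxr : x ^ r = 1) (hx1 : x ≠ 1) (hred : Red (preG eT X)) :
    ∃ S : Submodule F (ι → F), Mx hI X S k ∧ S ≤ fx (lin x) := by
  have hlin : (lin x) ^ r = 1 := by rw [← H251.GeoCard.toLin_pow, hxr]; exact lin_one
  obtain ⟨-, hcm, hor, -⟩ := elt_data hr hk hn hlin (lin_ne_one hx1)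
  have hiso : Iso Q (lin x) r := Iso.mk' hr hk hlin (lin_iso preG_le hx)
  have hadd := hiso.finrank_add
  have hfin : finrank F (ι → F) = Fintype.card ι := Module.finrank_fintype_fun_eq_card F
  have key : ∀ W : Submodule F (ι → F), preG eT X ≤ subspaceStabilizer W → W ≤ fx (lin x) ∨ cm (lin x) ≤ W :=
    fun W hW => hor W (inv_of_mem (hW hx))
  have hD : ∀ W : Submodule F (ι → F), Inv0 hI X W → finrank F W < k → W ≤ fx (lin x) := by
    intro W hW hWk
    rcases key W ((inv0_iff hG).1 hW) with h | h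
    · exact h
    · have := Submodule.finrank_mono h
      omega
  have hex : ∃ W : Submodule F (ι → F), Inv0 hI X W ∧ finrank F W < k ∧ W ≠ ⊥ := by
    obtain ⟨W, hW0, hW1, hW⟩ := hred
    rcases key W hW with h | h
    · refine ⟨W, (inv0_iff hG).2 hW, ?_, hW0⟩
      have := Submodule.finrank_mono h
      omega
    · refine ⟨perp Q W, (inv0_iff hG).2 (stab_perp preG_le hW), ?_, ?_⟩
      · have h1 := finrank_perp hG.nondeg W
        have := Submodule.finrank_mono h
        omega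
      · intro h0
        apply hW1
        rw [← perp_perp hG.nondeg W, h0, perp_bot]
  set A : Set (Submodule F (ι → F)) := {W | Inv0 hI X W ∧ finrank F W < k} with hA
  have hle : ∀ x ∈ X, sSup A ≤ act hI x (sSup A) := by
    intro x hx
    refine sSup_le fun W hW => ?_
    have h1 : act hI x⁻¹ W ∈ A := ⟨hW.1.act hG (X.inv_mem hx), by rw [finrank_act]; exact hW.2⟩
    have h2 := act_mono hI x (le_sSup h1)
    rwa [act_act_inv hG] at h2
  refine ⟨sSup A, ⟨?_, fun x hx => le_antisymm ?_ (hle x hx), fun W hW hWk => le_sSup ⟨(inv0_iff hG).2 hW, hWk⟩⟩,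
    sSup_le fun W hW => hD W hW.1 hW.2⟩
  · obtain ⟨W, hW, hd, hne⟩ := hex
    intro h0
    apply hne
    rw [eq_bot_iff, ← h0]
    exact le_sSup ⟨hW, hd⟩
  · have h1 := act_mono hI x (hle x⁻¹ (X.inv_mem hx))
    rwa [act_act_inv hG] at h1

end mx

end Cfsg.Agent.H964.Rg
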