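import Cfsg.Agent.H964.Rg.Mx
import Cfsg.Agent.H588.Rg.LiftEven
import Cfsg.Agent.H111.Rg.Plane
import Cfsg.Agent.H177.Rg.SpOver

/-!
# S3691, sections 6, 7: the residual cases from the section groups (helper964)

* `resV_odd`, `resV_even`, `resP_of`
* `no_form` : characteristic 2, `S = ⟨v⟩` nonsingular: the section group preserves no quadratic form with the same polar form
-/

set_option autoImplicit false
set_option linter.unusedSectionVars false

namespace Cfsg.Agent.H964.Rg

open Module QuadraticMap Cfsg Cfsg.Geo Cfsg.Agent.LieClassical.OrthCore Cfsg.Agent.LieClassical.OrthTrans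
  Cfsg.Agent.H454.Reg Cfsg.Agent.H884.El Cfsg.Agent.H955 Cfsg.Agent.H954.TSing Cfsg.Agent.H449.Reg
open Cfsg.Agent.H951 (fx cm Inv)
open Cfsg.Agent.H278.Cov (Red)
open Cfsg.Agent.LieClassical.OrthFinite (glEquiv glEquiv_apply)
open scoped MatrixGroups Matrix

universe u v

variable {ι : Type} [Fintype ι] [DecidableEq ι] {F : Type v} [Field F] [Fintype F] {Q : QuadraticForm F (ι → F)}
variable {G : Type u} [Group G] {T : Subgroup G} [T.Normal] {hG : Good Q} {eT : T ≃* POmega F (⇑Q)}
  {hI : Ind (eP hG eT)} {X Y Z : Subgroup G} {k l r s : ℕ} {S : Submodule F (ι → F)} {v : ι → F} {x : GL ι F}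

theorem stab_of_fix (hfix : ∀ x ∈ X, act hI x S = S) : preG eT X ≤ subspaceStabilizer S := (inv0_iff hG).1 fun _ ht => hfix _ ht

theorem sgn_of {H : Subgroup (GL ι F)} (hH : H ≤ isometryGroup F (⇑Q)) (hst : H ≤ subspaceStabilizer (F ∙ v)) (hv : Q v ≠ 0)
    {g : GL ι F} (hg : g ∈ H) : (g : Matrix ι ι F) *ᵥ v = v ∨ (g : Matrix ι ι F) *ᵥ v = -v := by
  have h1 := stab_apply (hst hg) (Submodule.mem_span_singleton_self v)
  obtain ⟨c, hc⟩ := Submodule.mem_span_singleton.1 h1
  have h3 := Q_mulVec hH hg v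
  rw [← hc, QuadraticMap.map_smul, smul_eq_mul] at h3
  have h4 : c * c = 1 := mul_right_cancel₀ hv (by rw [h3, one_mul])
  rcases mul_self_eq_one_iff.1 h4 with h5 | h5
  · left; rw [← hc, h5, one_smul]
  · right; rw [← hc, h5, neg_one_smul]

theorem map_le_E (hG : Good Q) : (preG eT X).map (glEquiv ι F).toMonoidHom ≤ E Q := by
  rintro _ ⟨g, hg, rfl⟩
  obtain ⟨y, rfl, -⟩ := exists_of_mem_preG hg
  have h1 := (AutOrth.Main.oe hG y).2
  have h2 : (glEquiv ι F).toMonoidHom ((y : isometryGroup F (⇑Q)) : GL ι F) = (AutOrth.Main.oe hG y : (ι → F) ≃ₗ[F] (ι → F)) := by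
    apply LinearEquiv.ext
    intro w
    rfl
  rw [h2]
  exact h1

/-- **`q` odd, a nonsingular point** -/
theorem resV_odd (h2 : (2 : F) ≠ 0) (hv : Q v ≠ 0) (hfix : ∀ x ∈ X, act hI x (F ∙ v) = F ∙ v) (hn : 6 ≤ Fintype.card ι)
    (hS : Sec Q (preG eT X) (perp Q (F ∙ v)) ⊥) (hE : E (res Q (perp Q (F ∙ v))) ≤ secG hS) : ResV hI X v := by
  have hv0 : v ≠ 0 := by
    rintro rfl
    exact hv (QuadraticMap.map_zero Q)
  have hnd : Nondeg (res Q (perp Q (F ∙ v))) := nondeg_perp hG.nondeg (Ctx.nondeg_line h2 hv)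
  have hGU : Good (res Q (perp Q (F ∙ v))) := LieClassical.OrthFinite.good_of_finite hnd (by
    rw [finrank_perp hG.nondeg, Module.finrank_fintype_fun_eq_card, finrank_span_singleton hv0]; omega)
  refine ⟨hv, hfix, fun u w hu hw huv hwv => sieg_of hv h2 preG_le (fun g hg => sgn_of preG_le (stab_of_fix hfix) hv hg) hGU ?_
    hu hw huv hwv⟩
  intro e he
  obtain ⟨h, hh, h1⟩ := hE he
  refine ⟨h, hh, fun u => ?_⟩
  have h3 := (Submodule.mem_bot F).1 (h1 u)
  exact (sub_eq_zero.1 h3).symm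

/-- **`q` even, a nonsingular point** -/
theorem resV_even (h2 : (2 : F) = 0) (hv : Q v ≠ 0) (hfix : ∀ x ∈ X, act hI x (F ∙ v) = F ∙ v) (hn : 7 ≤ Fintype.card ι)
    (hx : Iso Q (lin x) r) (hU : cm (lin x) ⊔ (F ∙ v) = perp Q (F ∙ v)) (hvx : v ∈ fx (lin x))
    (hS : Sec Q (preG eT X) (cm (lin x)) (F ∙ v))
    (hSp : ∀ y : (cm (lin x)) ≃ₗ[F] (cm (lin x)), (∀ u w, polar (res Q (cm (lin x))) (y u) (y w) = polar (res Q (cm (lin x))) u w) →
      y ∈ secG hS) : ResV hI X v := by
  have hone : ∀ g ∈ preG eT X, (g : Matrix ι ι F) *ᵥ v = v := by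
    intro g hg
    rcases sgn_of preG_le (stab_of_fix hfix) hv hg with h1 | h1
    · exact h1
    · have h3 : -v = v := by
        have : (2 : F) • v = 0 := by rw [h2, zero_smul]
        rw [two_smul] at this
        exact (eq_neg_of_add_eq_zero_left this).symm
      rw [h1, h3]
  refine ⟨hv, hfix, fun u w hu hw huv hwv => ?_⟩
  have hc := H951.isCompl_fx_cm hx.ne0 hx.pow
  have h1 := H588.Rg.lift_even (A := (preG eT X).map (glEquiv ι F).toMonoidHom) h2 hG.nondeg hv (map_le_E hG)
    (by rw [Module.finrank_fintype_fun_eq_card]; exact hn) (by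
      rintro _ ⟨g, hg, rfl⟩
      exact hone g hg) hU (by
      rw [eq_bot_iff, ← hc.inf_eq_bot, inf_comm]
      exact inf_le_inf_right _ ((Submodule.span_singleton_le_iff_mem v _).2 hvx)) (by
      intro y hy
      obtain ⟨h, hh, h1⟩ := hSp y hy
      refine ⟨_, ⟨h, hh, rfl⟩, fun u => ?_⟩
      obtain ⟨c, hc⟩ := Submodule.mem_span_singleton.1 (h1 u)
      refine ⟨c, ?_⟩
      rw [hc]
      change (h : Matrix ι ι F) *ᵥ (u : ι → F) = _
      abel) hu hw huv hwv
  obtain ⟨g, hg, hge⟩ := h1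
  have h3 : g = (glEquiv ι F).symm (siegel Q u w hu hw) := by
    rw [← hge]
    exact ((glEquiv ι F).symm_apply_apply g).symm
  rw [← h3]
  exact hg

/-- **an anisotropic plane** -/
theorem resP_of {P U : Submodule F (ι → F)} (hP2 : finrank F P = 2) (haniso : ∀ x ∈ P, Q x = 0 → x = 0)
    (hnd : Nondeg (res Q P)) (hfix : ∀ x ∈ X, act hI x P = P) (hn : 7 ≤ Fintype.card ι) (hUP : U = perp Q P)
    (hS : Sec Q (preG eT X) U ⊥) (hE : E (res Q U) ≤ secG hS) : ResP hI X P := by
  subst hUP
  refine ⟨hP2, haniso, hfix, fun u w hu hw huP hwP => ?_⟩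
  have h1 := H111.Rg.lift_plane (A := (preG eT X).map (glEquiv ι F).toMonoidHom) hG.nondeg hnd hP2.le
    (by rw [Module.finrank_fintype_fun_eq_card]; exact hn) ((map_le_E hG).trans fun g hg => E_le_O hg) (by
      rintro _ ⟨g, hg, rfl⟩ y hy
      exact stab_apply (stab_of_fix hfix hg) hy) (by
      intro y hy
      obtain ⟨h, hh, h1⟩ := hE hy
      refine ⟨_, ⟨h, hh, rfl⟩, fun z => ?_⟩
      exact sub_eq_zero.1 ((Submodule.mem_bot F).1 (h1 z))) hu hw huP hwP
  obtain ⟨g, hg, hge⟩ := h1
  have h3 : g = (glEquiv ι F).symm (siegel Q u w hu hw) := by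
    rw [← hge]
    exact ((glEquiv ι F).symm_apply_apply g).symm
  rw [← h3]
  exact hg

theorem exists_sqrt (h2 : (2 : F) = 0) (a : F) : ∃ c : F, c * c = a := by
  have hc : CharP F 2 := by
    obtain ⟨p, hp⟩ := CharP.exists F
    have h1 : p ∣ 2 := (CharP.cast_eq_zero_iff F p 2).1 (by exact_mod_cast h2)
    have h3 : p ≠ 1 := by
      rintro rfl
      exact (CharP.char_ne_one F 1) rfl
    have h4 : p = 2 := ((Nat.dvd_prime Nat.prime_two).1 h1).resolve_left h3
    rw [← h4]; exact hp
  have h3 : Function.Injective (frobenius F 2) := frobenius_inj F 2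
  obtain ⟨c, hc⟩ := (Finite.injective_iff_surjective.1 h3) a
  exact ⟨c, by
    have h4 : c ^ 2 = a := hc
    rw [← h4, pow_two]⟩

/-- **the section group preserves no quadratic form** with the same polar form -/
theorem no_form {U : Submodule F (ι → F)} (h2 : (2 : F) = 0) (hv : Q v ≠ 0) (hM : Mx hI X (F ∙ v) k) (hk : 2 < k)
    (hU : U ⊔ (F ∙ v) = perp Q (F ∙ v)) (hS : Sec Q (preG eT X) U (F ∙ v)) {Q' : QuadraticForm F U}
    (hQ' : ∀ u w, polar Q' u w = polar (res Q U) u w) (hO : secG hS ≤ O Q') : False := by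
  have hv0 : v ≠ 0 := by
    rintro rfl
    exact hv (QuadraticMap.map_zero Q)
  have hvv : polar Q v v = 0 := by rw [polar_self', h2, zero_mul]
  -- the invariant complement
  let C : Submodule F (ι → F) :=
    { carrier := {w | ∃ u : U, w - u ∈ F ∙ v ∧ Q w = Q' u}
      add_mem' := by
        rintro a b ⟨u, hu, ha⟩ ⟨w, hw, hb⟩
        refine ⟨u + w, ?_, ?_⟩
        · have h3 := (F ∙ v).add_mem hu hw
          have h4 : a + b - ((u + w : U) : ι → F) = a - u + (b - w) := by
            rw [Submodule.coe_add]; abel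
          rw [h4]; exact h3
        · rw [Q_add, Q_add, ha, hb, hQ']
          congr 1
          obtain ⟨c, hc⟩ := Submodule.mem_span_singleton.1 hu
          obtain ⟨d, hd⟩ := Submodule.mem_span_singleton.1 hw
          have ha' : a = u + c • v := by rw [hc]; abel
          have hb' : b = w + d • v := by rw [hd]; abel
          have h5 : ∀ y : U, polar Q v y = 0 := fun y => hS.orth v (Submodule.mem_span_singleton_self v) y y.2
          rw [ha', hb', polar_add_left, polar_add_right, polar_add_right, polar_smul_left, polar_smul_left, polar_smul_right,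
            polar_smul_right, hvv, h5, polar_comm Q (u : ι → F) v, h5]
          simp
          rfl
      zero_mem' := ⟨0, by
        rw [Submodule.coe_zero, sub_zero]
        exact ⟨Submodule.zero_mem _, by rw [QuadraticMap.map_zero, QuadraticMap.map_zero]⟩⟩
      smul_mem' := by
        rintro c a ⟨u, hu, ha⟩
        refine ⟨c • u, ?_, ?_⟩
        · have h3 := (F ∙ v).smul_mem c hu
          rw [smul_sub] at h3
          exact h3
        · rw [QuadraticMap.map_smul, QuadraticMap.map_smul, ha] }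
  have hC1 : C ≤ perp Q (F ∙ v) := by
    rintro w ⟨u, hu, -⟩
    rw [← hU]
    have h3 : w = u + (w - u) := by abel
    rw [h3]
    exact Submodule.add_mem_sup u.2 hu
  have hC2 : C ⊓ (F ∙ v) = ⊥ := by
    rw [eq_bot_iff]
    rintro w ⟨⟨u, hu, hw⟩, hwv⟩
    have h3 : (u : ι → F) ∈ F ∙ v := by
      have h4 := (F ∙ v).sub_mem hwv hu
      rwa [sub_sub_cancel] at h4
    have h4 : u = 0 := Subtype.ext (hS.inf u u.2 h3)
    rw [h4, QuadraticMap.map_zero] at hw
    obtain ⟨c, rfl⟩ := Submodule.mem_span_singleton.1 hwv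
    rw [QuadraticMap.map_smul, smul_eq_mul] at hw
    rcases mul_eq_zero.1 hw with h5 | h5
    · have : c = 0 := by simpa using h5
      rw [this, zero_smul]
      exact Submodule.zero_mem _
    · exact absurd h5 hv
  have hC3 : C ⊔ (F ∙ v) = perp Q (F ∙ v) := by
    apply le_antisymm
    · refine sup_le hC1 ?_
      rw [← hU]; exact le_sup_right
    · rw [← hU]
      refine sup_le ?_ le_sup_right
      intro u hu
      obtain ⟨c, hc⟩ := exists_sqrt h2 ((Q' ⟨u, hu⟩ - Q u) / Q v)
      have h3 : u + c • v ∈ C := by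
        refine ⟨⟨u, hu⟩, ?_, ?_⟩
        · change u + c • v - u ∈ _
          rw [add_sub_cancel_left]
          exact Submodule.smul_mem _ _ (Submodule.mem_span_singleton_self v)
        · rw [Q_add, QuadraticMap.map_smul, smul_eq_mul, hc, polar_smul_right, polar_comm,
            hS.orth v (Submodule.mem_span_singleton_self v) u hu, smul_zero, add_zero, div_mul_cancel₀ _ hv]
          abel
      have h4 : u = (u + c • v) + (-c) • v := by rw [neg_smul]; abel
      rw [h4]
      exact Submodule.add_mem_sup h3 (Submodule.smul_mem _ _ (Submodule.mem_span_singleton_self v))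
  -- dimensions
  have h5 := Submodule.finrank_sup_add_finrank_inf_eq C (F ∙ v)
  rw [hC2, hC3, finrank_bot, finrank_span_singleton hv0] at h5
  have h6 := finrank_add_perp hG.nondeg (F ∙ v)
  rw [finrank_span_singleton hv0] at h6
  have h7 := finrank_add_perp hG.nondeg C
  -- invariance
  have h8 : preG eT X ≤ subspaceStabilizer C := by
    intro g hg
    refine H884.OmegaGL.mem_subspaceStabilizer.2 fun w hw => ?_
    rw [glEquiv_apply]
    obtain ⟨u, hu, hw⟩ := hw
    obtain ⟨e, he, h9⟩ := hS.exists_of_mem hg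
    refine ⟨e u, ?_, ?_⟩
    · have h10 := (F ∙ v).add_mem (stab_apply (hS.stR hg) hu) (h9 u)
      rw [Matrix.mulVec_sub] at h10
      have h11 : (g : Matrix ι ι F) *ᵥ w - ((e u : U) : ι → F) = (g : Matrix ι ι F) *ᵥ w - (g : Matrix ι ι F) *ᵥ (u : ι → F) +
          ((g : Matrix ι ι F) *ᵥ (u : ι → F) - ((e u : U) : ι → F)) := by abel
      rw [h11]; exact h10
    · rw [Q_mulVec preG_le hg, hw]
      exact (mem_O.1 (hO he) u).symm
  have h9 := hM.max _ (stab_perp preG_le h8) (by omega)
  have h10 := Submodule.finrank_mono h9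
  rw [finrank_span_singleton hv0] at h10
  omega

end Cfsg.Agent.H964.Rg
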