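import Cfsg.Agent.H964.Rg.Slo
import Cfsg.Agent.H71.Rg.NoExt

/-!
# S3691, section 6: the reducible factor, minus type (helper964)
-/

set_option autoImplicit false
set_option linter.unusedSectionVars false

namespace Cfsg.Agent.H964.Rg

open Module QuadraticMap Cfsg Cfsg.Geo Cfsg.Agent.LieClassical.OrthCore Cfsg.Agent.LieClassical.OrthTrans
  Cfsg.Agent.H454.Reg Cfsg.Agent.H884.El Cfsg.Agent.H955 Cfsg.Agent.H954.TSing Cfsg.Agent.H193.Dg Cfsg.Agent.H851.Dg
  Cfsg.Agent.H449.Reg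
open Cfsg.Agent.H951 (fx cm Inv)
open Cfsg.Agent.H278.Cov (Red Ext Num)
open scoped MatrixGroups Matrix

universe u v

variable {ι : Type} [Fintype ι] [DecidableEq ι] {F : Type v} [Field F] [Fintype F] {Q : QuadraticForm F (ι → F)}
variable {G : Type u} [Group G] [Finite G] {T : Subgroup G} [T.Normal] {hG : Good Q} {eT : T ≃* POmega F (⇑Q)}
  {hI : Ind (eP hG eT)} {X Y : Subgroup G} {p f m N : ℕ}

/-- the primes which exclude extension fields -/
def Kl (F : Type v) [Field F] (n m : ℕ) : Prop :=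
  (∃ r4, PP (Nat.card F) (2 * m - 4) r4 ∧ r4 ∣ n) ∨
      (Odd m ∧ ∃ t, PP (Nat.card F) (m - 2) t ∧ t ∣ n) ∨
      (Even m ∧ (∃ t, PP (Nat.card F) (m - 1) t ∧ t ∣ n) ∧ ∃ t, PP (Nat.card F) (m - 3) t ∧ t ∣ n)

theorem Kl.imp {n n' : ℕ} (h : Kl F n m) (hm : 5 ≤ m)
    (hn : ∀ e t, 3 ≤ e → PP (Nat.card F) e t → t ∣ n → t ∣ n') : Kl F n' m := by
  rcases h with ⟨r, h1, h2⟩ | ⟨ho, r, h1, h2⟩ | ⟨he, ⟨r, h1, h2⟩, ⟨s, h3, h4⟩⟩
  · exact Or.inl ⟨r, h1, hn _ _ (by omega) h1 h2⟩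
  · exact Or.inr (Or.inl ⟨ho, r, h1, hn _ _ (by omega) h1 h2⟩)
  · obtain ⟨c, hc⟩ := he
    exact Or.inr (Or.inr ⟨⟨c, hc⟩, ⟨r, h1, hn _ _ (by omega) h1 h2⟩, ⟨s, h3, hn _ _ (by omega) h3 h4⟩⟩)

/-- no extension fields for a section of dimension `2 m - 2` -/
theorem sec_no_ext {H : Subgroup (GL ι F)} {U R : Submodule F (ι → F)} (hS : Sec Q H U R) (hι : Fintype.card ι = 2 * m) (hm : 5 ≤ m)
    (hU : finrank F U = 2 * m - 2) (hR : finrank F R ≤ 1) (hirr : ¬ RedV (secG hS))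
    (hc : (2 : F) = 0 ∨ ∀ a ∈ R, Q a = 0)
    {r2 : ℕ} (hr2 : PP (Nat.card F) (2 * m - 2) r2) (h2 : r2 ∣ Nat.card H) (hk : Kl F (Nat.card H) m) {d : ℕ} (hd : d ∣ 2 * m - 2) :
    ∀ s, s.Prime → s ∣ d → ¬ AExt s (secG hS) := by
  intro s hs hsd
  have hdv : ∀ e t, 3 ≤ e → PP (Nat.card F) e t → t ∣ Nat.card H → t ∣ Nat.card (secG hS) := fun e t he ht hd =>
    hS.dvd ht (by omega) (by omega) (by omega) hd
  refine H71.Rg.no_ext hS.nd (fun h hh u w => hS.polar_eq h hh u w) (hc.imp id fun h => hS.le_O h) hirr hm hU hr2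
    (hdv _ _ (by omega) hr2 h2) (hk.imp hm hdv) hs (hsd.trans hd)

/-- the singular case -/
structure MSing (eT : T ≃* POmega F (⇑Q)) (Y : Subgroup G) (m : ℕ) : Prop where
  ex : ∃ (S : Submodule F (ι → F)) (x : ι → F) (U R : Submodule F (ι → F)) (hS : Sec Q (preG eT Y) U R),
    Q x = 0 ∧ x ≠ 0 ∧ x ∈ S ∧ finrank F S ≤ 2 ∧ preG eT Y ≤ subspaceStabilizer S ∧ finrank F U = 2 * m - 2 ∧
    finrank F R ≤ 1 ∧ (∀ a ∈ R, Q a = 0) ∧ U ⊔ R = perp Q S ∧ ¬ RedV (secG hS) ∧ ¬ IsPlus (res Q U)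

/-- **(B) MINUS, the reducible factor** -/
theorem minus_fac (h : Cx hI X Y p f m (2 * m)) (hm : 5 ≤ m) (hP : ¬ IsPlus Q)
    {r2 : ℕ} (hr2 : PP (Nat.card F) (2 * m - 2) r2) (hY2 : r2 ∣ Nat.card (Y.subgroupOf T)) (hred : Red (preG eT Y))
    (hk : Kl F (Nat.card (Y.subgroupOf T)) m)
    (h9 : (2 : F) ≠ 0 → SLO Q (preG eT Y) (2 * m - 1) 1)
    {d : ℕ} (hd : d ∣ 2 * m - 2) (h10 : (2 : F) = 0 → SLS Q (preG eT Y) (2 * m - 2) d) :
    (∃ v, ResV hI Y v) ∨ MSing eT Y m := by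
  have hι := h.dim
  have hYp : r2 ∣ Nat.card (preG eT Y) := hY2.trans card_dvd_preG
  have hkp : Kl F (Nat.card (preG eT Y)) m := hk.imp hm fun _ _ _ _ hd => hd.trans card_dvd_preG
  obtain ⟨g, hg, hiso, hgr, hg1⟩ := exists_elt (Q := Q) (preG_le (eT := eT) (X := Y)) hr2 (by omega) hYp
  have hfinV : finrank F (ι → F) = 2 * m := h.finrank_V
  have hev : Even (2 * m - 2) := ⟨m - 1, by omega⟩
  obtain ⟨hcm, hmin⟩ := hiso.even_case hG.nondeg (lin_ne_one hg1) hr2 hev (by rw [hfinV]; omega)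
  have hadd := hiso.finrank_add
  have hfx : finrank F (fx (lin g)) = 2 := by omega
  obtain ⟨S, hM, hSf⟩ := exists_mx hI hr2 (by omega) (by omega) hg hgr hg1 hred
  have hst := hM.le
  have hS2 : finrank F S ≤ 2 := by rw [← hfx]; exact Submodule.finrank_mono hSf
  have hS0 : finrank F S ≠ 0 := fun h0 => hM.ne (Submodule.finrank_eq_zero.1 h0)
  have hQ := hG.nondeg
  have hcI := H951.isCompl_fx_cm hiso.ne0 hiso.pow
  have hcap1 : ∀ u ∈ cm (lin g), u ∈ S → u = 0 := by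
    intro u hu huS
    have h1 : u ∈ fx (lin g) ⊓ cm (lin g) := ⟨hSf huS, hu⟩
    rw [hcI.inf_eq_bot] at h1
    exact (Submodule.mem_bot F).1 h1
  have := Fact.mk hiso.prime
  rcases (show finrank F S = 1 ∨ finrank F S = 2 by omega) with h1 | h1
  · -- a line
    obtain ⟨v, hv0, hSv⟩ : ∃ v : ι → F, v ≠ 0 ∧ S = F ∙ v := by
      obtain ⟨v, hvS, hv0⟩ := Submodule.exists_mem_ne_zero_of_ne_bot hM.ne
      refine ⟨v, hv0, (Submodule.eq_of_le_of_finrank_eq ((Submodule.span_singleton_le_iff_mem v S).2 hvS) ?_).symm⟩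
      rw [finrank_span_singleton hv0, h1]
    subst hSv
    have hvx : v ∈ fx (lin g) := hSf (Submodule.mem_span_singleton_self v)
    by_cases hv : Q v = 0
    · -- singular
      right
      have hvv : polar Q v v = 0 := by rw [polar_self', hv, mul_zero]
      obtain ⟨hS, hU⟩ := sec_line hQ preG_le hiso hfx hv0 hvv hvx hst
      refine ⟨F ∙ v, v, cm (lin g), F ∙ v, hS, hv, hv0, Submodule.mem_span_singleton_self v, hS2, hst, hcm,
        by rw [finrank_span_singleton hv0], ?_, hU, hS.irr hQ hr2 (by omega) (by omega) hg hgr hg1 hU hM.max hcap1, hmin⟩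
      intro a ha
      obtain ⟨c, rfl⟩ := Submodule.mem_span_singleton.1 ha
      rw [QuadraticMap.map_smul, hv, smul_zero]
    · left
      refine ⟨v, ?_⟩
      by_cases hc : (2 : F) = 0
      · have hvv : polar Q v v = 0 := by rw [polar_self', hc, zero_mul]
        obtain ⟨hS, hU⟩ := sec_line hQ preG_le hiso hfx hv0 hvv hvx hst
        have hirr := hS.irr hQ hr2 (by omega) (by omega) hg hgr hg1 hU hM.max hcap1
        have hR : finrank F (F ∙ v) ≤ 1 := by rw [finrank_span_singleton hv0]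
        exact resV_even hc hv hM.fix (by omega) hiso hU hvx hS (sp_of_sls hc hv hM (by omega) hU hS (by omega) hcm (h10 hc) hirr
          (sec_no_ext hS hι hm hcm hR hirr (Or.inl hc) hr2 hYp hkp hd))
      · obtain ⟨hS, hU⟩ := sec_perp hQ (preG_le (eT := eT) (X := Y)) hc hv hst
        have hfU : finrank F (perp Q (F ∙ v)) = 2 * m - 1 := by
          rw [finrank_perp hQ, hfinV, finrank_span_singleton hv0]
        have hirr := hS.irr hQ hr2 (by omega) (by omega) hg hgr hg1 hU hM.max (by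
          intro u hu huS
          obtain ⟨c, rfl⟩ := Submodule.mem_span_singleton.1 huS
          have h3 := hu v (Submodule.mem_span_singleton_self v)
          rw [polar_smul_right, polar_self', smul_eq_mul] at h3
          rcases mul_eq_zero.1 h3 with h4 | h4
          · rw [h4, zero_smul]
          · exact absurd h4 (mul_ne_zero hc hv))
        rcases h9 hc _ _ hS hfU (by rw [finrank_bot]; omega) (by
          intro a ha
          rw [(Submodule.mem_bot F).1 ha, QuadraticMap.map_zero]) with h3 | ⟨s, hs, hsd, -⟩ | h3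
        · exact absurd h3 hirr
        · exact absurd (Nat.dvd_one.1 hsd) hs.one_lt.ne'
        · exact resV_odd hc hv hM.fix (by omega) hS h3
  · -- a plane
    right
    have hSe : S = fx (lin g) := Submodule.eq_of_le_of_finrank_eq hSf (by rw [h1, hfx])
    have hpl : IsPlus (res Q (fx (lin g))) := by
      rw [isPlus_fx_iff hiso.two_lt hQ (by rw [hfinV]; exact even_two_mul m) hiso.iso hiso.ne0 hiso.pow (ord_eq hr2) hev
        (A := 1) (by rw [hcm, mul_one])]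
      exact ⟨fun h5 => absurd h5 hP, fun h5 => absurd h5 (by decide)⟩
    obtain ⟨W, hW, hWd⟩ := hpl
    have hW0 : W ≠ ⊥ := by
      rintro rfl
      rw [finrank_bot, hfx] at hWd
      omega
    obtain ⟨x, hxW, hx0⟩ := Submodule.exists_mem_ne_zero_of_ne_bot hW0
    obtain ⟨hS, hU⟩ := sec_plane hQ (preG_le (eT := eT) (X := Y)) hiso (by rw [← hSe]; exact hst)
    refine ⟨S, x, cm (lin g), ⊥, hS, hW x hxW, fun h5 => hx0 (Subtype.ext h5), by rw [hSe]; exact x.2, hS2, hst, hcm,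
      by rw [finrank_bot]; omega, ?_, by rw [hSe]; exact hU,
      hS.irr hQ hr2 (by omega) (by omega) hg hgr hg1 (by rw [hSe]; exact hU) hM.max hcap1, hmin⟩
    intro a ha
    rw [(Submodule.mem_bot F).1 ha, QuadraticMap.map_zero]

end Cfsg.Agent.H964.Rg
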