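import Cfsg.Agent.H964.Rg.MinusRed
import Cfsg.Agent.H729.Rg.SloOf
import Cfsg.Agent.H951.Rl.BigN

/-!
# S3691, section 6: minus type, generic primes (helper964)
-/

set_option autoImplicit false
set_option linter.unusedSectionVars false

namespace Cfsg.Agent.H964.Rg

open Module QuadraticMap Cfsg Cfsg.Geo Cfsg.Agent.LieClassical.OrthCore Cfsg.Agent.LieClassical.OrthTrans
  Cfsg.Agent.H454.Reg Cfsg.Agent.H884.El Cfsg.Agent.H955 Cfsg.Agent.H954.TSing Cfsg.Agent.H193.Dg Cfsg.Agent.H851.Dg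
  Cfsg.Agent.H449.Reg
open Cfsg.Agent.H951 (fx cm Inv)
open Cfsg.Agent.H278.Cov (Red Ext Num)
open scoped MatrixGroups Matrix

universe u v

theorem lp_gen {p f k : ℕ} (hp : p.Prime) (hf : 1 ≤ f) (hk : 8 ≤ k)
    (h : ¬ (p = 2 ∧ f = 1 ∧ (k = 8 ∨ k = 10 ∨ k = 12 ∨ k = 18 ∨ k = 20))) (h3 : ¬ (p = 3 ∧ f = 1 ∧ k = 18))
    (h9 : ¬ (p = 2 ∧ f = 2 ∧ k = 9)) : LP p f k := by
  obtain ⟨r, hr⟩ := H951.Rl.exists_big hp hf (k := k) (by omega) (by
    simp only [List.mem_cons, Prod.mk.injEq, List.not_mem_nil, or_false]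
    omega)
  exact ⟨r, _, ⟨hr.prime, hr.ord⟩, hr.big, hr.dvd⟩

variable {ι : Type} [Fintype ι] [DecidableEq ι] {F : Type v} [Field F] [Fintype F] {Q : QuadraticForm F (ι → F)}
variable {G : Type u} [Group G] [Finite G] {T : Subgroup G} [T.Normal] {hG : Good Q} {eT : T ≃* POmega F (⇑Q)}
  {hI : Ind (eP hG eT)} {X Y : Subgroup G} {p f m N : ℕ}

theorem ex2_of {d : ℕ} (hd : ∀ s, s.Prime → s ∣ d → s = 2) {H : Subgroup (GL ι F)} (h : Red H ∨ Ext d H) : Red H ∨ Ex2 H := by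
  rcases h with h | ⟨s, K, hs, hsd, hK, hle⟩
  · exact Or.inl h
  · obtain rfl := hd s hs hsd
    exact Or.inr ⟨K, hK, hle⟩

theorem two_of_gcd {m s : ℕ} (hm : 2 ≤ m) (hs : s.Prime) (h : s ∣ Nat.gcd (2 * m) (2 * m - 2)) : s = 2 := by
  have h3 : s ∣ 2 * m - (2 * m - 2) := Nat.dvd_sub (h.trans (Nat.gcd_dvd_left _ _)) (h.trans (Nat.gcd_dvd_right _ _))
  have h4 : 2 * m - (2 * m - 2) = 2 := by omega
  rw [h4] at h3
  exact (Nat.prime_dvd_prime_iff_eq hs Nat.prime_two).1 h3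

/-- the factor containing a prime with a large power has the large power -/
theorem Cx.big_of (h : Cx hI X Y p f m N) {k r a : ℕ} (he : Even k) (hk : 3 ≤ k) (hmk : m < k) (hkN : k ≤ N)
    (hr : PP p (f * k) r) (hb : 2 * k + 1 < r ^ a) (hd : r ^ a ∣ (p ^ f) ^ k - 1) (hY : r ∣ Nat.card (Y.subgroupOf T)) :
    Big T Y p f k := by
  rcases h.side he hk hmk hkN hr with h1 | h1
  · exfalso
    have ha : a ≠ 0 := by
      rintro rfl
      rw [pow_zero] at hb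
      omega
    exact h.not_both (h.pp hr) (by omega) hmk ((dvd_pow_self r ha).trans (h1 a hd)) hY
  · exact ⟨r, a, hr, hb, hd, h1 a hd⟩

/-- the list properties from a large power of `r_{2m-2}` -/
theorem sl_of (hP5 : H659.CovCore.S5948Stmt.{v}) (h : Cx hI X Y p f m N) (hm : 6 ≤ m) (hB : Big T X p f (2 * m - 2)) :
    SL Q (preG eT X) m := by
  refine ⟨⟨2 * m - 2, dvd_rfl, ?_⟩, fun _ => ?_, fun hc => ⟨2 * m - 2, dvd_rfl, ?_⟩⟩
  · have h1 := H729.Rg.slo_of hP5 h (n := 2 * m - 2) (k := 2 * m - 2) (by omega) le_rfl (by omega) (by omega) (by omega) hB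
    rwa [Nat.gcd_self] at h1
  · have h1 := H729.Rg.slo_of hP5 h (n := 2 * m - 1) (k := 2 * m - 2) (by omega) (by omega) (by omega) (by omega) (by omega) hB
    have h2 : Nat.gcd (2 * m - 1) (2 * m - 2) = 1 := by
      have h3 : 2 * m - 1 = (2 * m - 2) + 1 := by omega
      rw [h3]
      exact Nat.coprime_self_add_left.2 (Nat.coprime_one_left _)
    rwa [h2] at h1
  · have h1 := H729.Rg.sls_of hP5 h hc (n := 2 * m - 2) (k := 2 * m - 2) (by omega) le_rfl (by omega) (by omega) (by omega) hB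
    rwa [Nat.gcd_self] at h1

theorem minus_gen1 (hP5 : H659.CovCore.S5948Stmt.{v}) (h : Cx hI X Y p f m (2 * m)) (hm : 5 ≤ m) (hP : ¬ IsPlus Q)
    (hq5 : m = 5 → 5 ≤ p ^ f) (hq7 : m ≤ 7 → 3 ≤ p ^ f) (hodd : OddP F T m)
    (hL2 : LP p f (2 * m - 2)) (hkx : Big T X p f (2 * m) → Odd m → KX eT X p f m)
    (h5 : m = 5 → Big T Y p f (2 * m - 2) → SL Q (preG eT Y) m) (hB : Big T X p f (2 * m)) : ∃ v, ResV hI Y v := by
  obtain ⟨r2, a2, hr2, hb2, hd2⟩ := hL2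
  have hB0 := hB
  obtain ⟨r0, a0, hr0, hb0, hd0, hX0⟩ := hB0
  have ha0 : a0 ≠ 0 := by
    rintro rfl
    rw [pow_zero] at hb0
    omega
  have hX0' : r0 ∣ Nat.card (X.subgroupOf T) := (dvd_pow_self r0 ha0).trans hX0
  have hBY : r2 ∣ Nat.card (Y.subgroupOf T) → Big T Y p f (2 * m - 2) := fun hY =>
    h.big_of ⟨m - 1, by omega⟩ (by omega) (by omega) (by omega) hr2 hb2 hd2 hY
  refine minus_red' h hm hP hq5 hq7 hodd (h.pp hr0) hX0' ?_ (hkx hB) hr2 ?_ ?_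
  · rcases h.list hP5 hm (k := 2 * m) le_rfl (by omega) hB with h1 | ⟨s, K, hs, hsd, hK, hle⟩
    · exact (h.irr_full (by omega) (h.pp hr0) hX0' h1).elim
    · rw [Nat.gcd_self] at hsd
      exact ⟨s, K, hs, hsd, hK, hle⟩
  · intro hY
    exact ex2_of (fun s hs hsd => two_of_gcd (by omega) hs hsd)
      (h.symm.list hP5 hm (k := 2 * m - 2) (by omega) (by omega) (hBY hY))
  · intro hY
    rcases Nat.eq_or_lt_of_le hm with h1 | h1
    · exact h5 h1.symm (hBY hY)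
    · exact sl_of hP5 h.symm h1 (hBY hY)

/-- **MINUS, generic primes** -/
theorem minus_gen (hP5 : H659.CovCore.S5948Stmt.{v}) (h : Cx hI X Y p f m (2 * m)) (hm : 5 ≤ m) (hP : ¬ IsPlus Q)
    (hq5 : m = 5 → 5 ≤ p ^ f) (hq7 : m ≤ 7 → 3 ≤ p ^ f) (hodd : OddP F T m)
    (hL0 : LP p f (2 * m)) (hL2 : LP p f (2 * m - 2))
    (hkx : ∀ Z Z' : Subgroup G, Cx hI Z Z' p f m (2 * m) → Big T Z p f (2 * m) → Odd m → KX eT Z p f m)
    (h5 : ∀ Z Z' : Subgroup G, Cx hI Z Z' p f m (2 * m) → m = 5 → Big T Z p f (2 * m - 2) → SL Q (preG eT Z) m) :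
    ∃ v, ResV hI X v ∨ ResV hI Y v := by
  rcases h.big_side (k := 2 * m) (even_two_mul m) (by omega) (by omega) le_rfl hL0 with hB | hB
  · obtain ⟨v, hv⟩ := minus_gen1 hP5 h hm hP hq5 hq7 hodd hL2 (hkx X Y h) (h5 Y X h.symm) hB
    exact ⟨v, Or.inr hv⟩
  · obtain ⟨v, hv⟩ := minus_gen1 hP5 h.symm hm hP hq5 hq7 hodd hL2 (hkx Y X h.symm) (h5 X Y h) hB
    exact ⟨v, Or.inl hv⟩

end Cfsg.Agent.H964.Rg
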