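import Cfsg.Agent.H964.Rg.Minus
import Cfsg.Agent.H173.Rg.MinusG
import Cfsg.Agent.H96.Rg.MinOdd
import Cfsg.Agent.H522.Rg.PolF

/-!
# S3691, section 6: minus type, the reduction (helper964)

`minus_red'` : `X` contains a large power of `r_{2m}`, `r_{2m-2}` has a large power (`SLO`, `SLS` of `Y`): `ResV hI Y v`
-/

set_option autoImplicit false
set_option linter.unusedSectionVars false

namespace Cfsg.Agent.H964.Rg

open Module QuadraticMap Cfsg Cfsg.Geo Cfsg.Agent.LieClassical.OrthCore Cfsg.Agent.LieClassical.OrthTrans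
  Cfsg.Agent.H454.Reg Cfsg.Agent.H884.El Cfsg.Agent.H955 Cfsg.Agent.H954.TSing Cfsg.Agent.H193.Dg Cfsg.Agent.H851.Dg
  Cfsg.Agent.H449.Reg
open Cfsg.Agent.H951 (fx cm Inv)
open Cfsg.Agent.H278.Cov (Red Ext Num)
open scoped MatrixGroups Matrix

universe u v

variable {ι : Type} [Fintype ι] [DecidableEq ι] {F : Type v} [Field F] [Fintype F] {Q : QuadraticForm F (ι → F)}
variable {G : Type u} [Group G] [Finite G] {T : Subgroup G} [T.Normal] {hG : Good Q} {eT : T ≃* POmega F (⇑Q)}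
  {hI : Ind (eP hG eT)} {X Y : Subgroup G} {p f m N : ℕ}

/-- the list properties of the sections of `Y` -/
structure SL (Q : QuadraticForm F (ι → F)) (H : Subgroup (GL ι F)) (m : ℕ) : Prop where
  s8 : ∃ d, d ∣ 2 * m - 2 ∧ SLO Q H (2 * m - 2) d
  s9 : (2 : F) ≠ 0 → SLO Q H (2 * m - 1) 1
  s10 : (2 : F) = 0 → ∃ d, d ∣ 2 * m - 2 ∧ SLS Q H (2 * m - 2) d

/-- the kext property -/
def KX (eT : T ≃* POmega F (⇑Q)) (X : Subgroup G) (p f m : ℕ) : Prop :=
  Ex2 (preG eT X) →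
      (m.Prime → ∃ N, N ∣ Nat.card (preG eT X) ∧ N.Coprime ((p ^ f) ^ (2 * m) - 1) ∧ ¬ N ∣ 2 * m) →
      (∃ t, PP (Nat.card F) (m - 1) t ∧ t ∣ Nat.card (preG eT X)) →
      (∀ t, PP (Nat.card F) (2 * m - 4) t → t ∣ Nat.card (preG eT X)) ∨
      (∀ t, PP (Nat.card F) (2 * m - 2) t → t ∣ Nat.card (preG eT X))

/-- the primes of odd order -/
def OddP (F : Type v) [Field F] (T : Subgroup G) [T.Normal] (m : ℕ) : Prop :=
  ∀ k, Odd k → 3 ≤ k → k < m → ∃ t, PP (Nat.card F) k t ∧ ¬ t ∣ Nat.card (Cfsg.Out T) ∧ t ∣ Nat.card T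

theorem Fac.or {t : ℕ} (hf : Fac T X Y) (ht : t.Prime) (hd : t ∣ Nat.card T) (ho : ¬ t ∣ Nat.card (Cfsg.Out T)) :
    t ∣ Nat.card (X.subgroupOf T) ∨ t ∣ Nat.card (Y.subgroupOf T) := hf.prime_dvd ht hd ho

theorem Cx.or (h : Cx hI X Y p f m N) {k r : ℕ} (he : Even k) (hk : 3 ≤ k) (hmk : m < k) (hkN : k ≤ N)
    (hr : PP p (f * k) r) : r ∣ Nat.card (X.subgroupOf T) ∨ r ∣ Nat.card (Y.subgroupOf T) := by
  have hd : r ^ 1 ∣ (p ^ f) ^ k - 1 := by
    rw [pow_one, ← pow_mul]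
    exact (hr.dvd_iff h.prime.one_le _).2 dvd_rfl
  rcases h.side he hk hmk hkN hr with h1 | h1
  · left; simpa using h1 1 hd
  · right; simpa using h1 1 hd

/-- an element of order `r_{2m}` acts irreducibly -/
theorem Cx.irr_full (h : Cx hI X Y p f m N) (hm : 1 ≤ m) {r0 : ℕ} (hr0 : PP (Nat.card F) (2 * m) r0)
    (hX0 : r0 ∣ Nat.card (X.subgroupOf T)) : ¬ Red (preG eT X) := by
  rintro ⟨W, hW0, hW1, hW⟩
  obtain ⟨g, hg, hiso, hgr, hg1⟩ := exists_elt (Q := Q) (preG_le (eT := eT) (X := X)) hr0 (by omega) (hX0.trans card_dvd_preG)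
  obtain ⟨-, hcm, hor, -⟩ := elt_data hr0 (by omega) (by rw [h.dim]; omega) hiso.pow (lin_ne_one hg1)
  have hadd := hiso.finrank_add
  rw [h.finrank_V] at hadd
  rcases hor W (inv_of_mem (hW hg)) with h1 | h1
  · have h2 := Submodule.finrank_mono h1
    exact hW0 (Submodule.finrank_eq_zero.1 (by omega))
  · have h2 := Submodule.finrank_mono h1
    refine hW1 (Submodule.eq_top_of_finrank_eq (le_antisymm (Submodule.finrank_le W) ?_))
    rw [h.finrank_V]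
    omega

/-- **MINUS, the reduction**, `r_{2m}` in `X` -/
theorem minus_red' (h : Cx hI X Y p f m (2 * m)) (hm : 5 ≤ m) (hP : ¬ IsPlus Q)
    (hq5 : m = 5 → 5 ≤ p ^ f) (hq7 : m ≤ 7 → 3 ≤ p ^ f) (hodd : OddP F T m)
    {r0 r2 : ℕ} (hr0 : PP (Nat.card F) (2 * m) r0) (hX0 : r0 ∣ Nat.card (X.subgroupOf T))
    (hLX : ∃ (s : ℕ) (K : Subalgebra F (Matrix ι ι F)), s.Prime ∧ s ∣ 2 * m ∧ IsFieldSubalgebra s K ∧
        preG eT X ≤ subalgebraNormalizer K)
    (hkx : Odd m → KX eT X p f m)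
    (hr2 : PP p (f * (2 * m - 2)) r2)
    (hLY : r2 ∣ Nat.card (Y.subgroupOf T) → Red (preG eT Y) ∨ Ex2 (preG eT Y))
    (hS : r2 ∣ Nat.card (Y.subgroupOf T) → SL Q (preG eT Y) m) : ∃ v, ResV hI Y v := by
  have hp2 := h.prime.two_le
  have hq2 : 2 ≤ p ^ f := hp2.trans (Nat.le_self_pow (by have := h.pos; omega) p)
  have hr2' := h.pp hr2
  have h2 := h.or (k := 2 * m - 2) ⟨m - 1, by omega⟩ (by omega) (by omega) (by omega) hr2
  obtain ⟨r4, hr4⟩ : ∃ r4, PP p (f * (2 * m - 4)) r4 := by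
    refine exists_ppp h.prime h.pos (by omega) ?_ ?_
    · rintro ⟨h1, h3⟩
      have := hq7 (by omega)
      omega
    · intro b hb h3
      have : 2 * (2 * m - 4) ≤ b * (2 * m - 4) := Nat.mul_le_mul_right _ hb
      omega
  have h4 := h.or (k := 2 * m - 4) ⟨m - 2, by omega⟩ (by omega) (by omega) (by omega) hr4
  rcases Nat.even_or_odd m with hme | hmo
  · -- `m` even
    have hm6 : 6 ≤ m := by obtain ⟨c, hc⟩ := hme; omega
    obtain ⟨t, ht, hto, htT⟩ := hodd (m - 1) (by obtain ⟨c, hc⟩ := hme; exact ⟨c - 1, by omega⟩) (by omega) (by omega)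
    obtain ⟨t3, ht3, ht3o, ht3T⟩ := hodd (m - 3) (by obtain ⟨c, hc⟩ := hme; exact ⟨c - 2, by omega⟩) (by omega) (by omega)
    obtain ⟨hY2, hYt, hY4, hred⟩ := H173.Rg.minus_mem_even h hm6 hme hP hr0 hr2' (h.pp hr4) ht ht3 hX0 h2 h4
      (Fac.or h.fac ht.prime htT hto) (Fac.or h.fac ht3.prime ht3T ht3o) (fun _ => hLX) (fun _ h5 => hLY h5)
    have hk : Kl F (Nat.card (Y.subgroupOf T)) m := by
      rcases hY4 with h5 | h5
      · exact Or.inl ⟨r4, h.pp hr4, h5⟩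
      · exact Or.inr (Or.inr ⟨hme, ⟨t, ht, hYt⟩, ⟨t3, ht3, h5⟩⟩)
    have hSL := hS hY2
    have key : ∀ d, d ∣ 2 * m - 2 → ((2 : F) = 0 → SLS Q (preG eT Y) (2 * m - 2) d) → ∃ v, ResV hI Y v := by
      intro d hd h10
      rcases minus_fac h hm hP hr2' hY2 hred hk hSL.s9 hd h10 with h6 | ⟨S, x, -, -, -, hx, hx0, hxS, hS2, hst, -⟩
      · exact h6
      · exact (H173.Rg.minus_even_no h hm6 hme hP ht hYt hx hx0 hxS hS2 hst).elim
    by_cases hc : (2 : F) = 0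
    · obtain ⟨d, hd, h10⟩ := hSL.s10 hc
      exact key d hd fun _ => h10
    · exact key 1 (one_dvd _) fun h7 => absurd h7 hc
  · -- `m` odd
    obtain ⟨t, ht, hto, htT⟩ := hodd (m - 2) (by obtain ⟨c, hc⟩ := hmo; exact ⟨c - 1, by omega⟩) (by omega) (by omega)
    obtain ⟨hY2, hYt, hred⟩ := H173.Rg.minus_mem_odd h hm hmo hP hr0 hr2' ht hX0 h2
      (Fac.or h.fac ht.prime htT hto) (fun _ => hLX) (fun _ h5 => hLY h5)
    have hk : Kl F (Nat.card (Y.subgroupOf T)) m := Or.inr (Or.inl ⟨hmo, t, ht, hYt⟩)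
    have hSL := hS hY2
    have key : ∀ d, d ∣ 2 * m - 2 → ((2 : F) = 0 → SLS Q (preG eT Y) (2 * m - 2) d) → ∃ v, ResV hI Y v := by
      intro d hd h10
      rcases minus_fac h hm hP hr2' hY2 hred hk hSL.s9 hd h10 with
        h6 | ⟨S, x, U, R, hSec, hx, hx0, hxS, hS2, hst, hU, hR, hR0, -, hirr, -⟩
      · exact h6
      · exfalso
        obtain ⟨d8, hd8, h8⟩ := hSL.s8
        rcases h8 U R hSec hU hR hR0 with h7 | ⟨s, hs, hsd, h7⟩ | h7
        · exact hirr h7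
        · exact sec_no_ext hSec h.dim hm hU hR hirr (Or.inr hR0) hr2' (hY2.trans card_dvd_preG)
            (hk.imp hm fun _ _ _ _ hd => hd.trans card_dvd_preG) hd8 s hs hsd h7
        · have h9 : r4 ∣ Nat.card (preG eT Y) :=
            ((H522.Rg.E_dvd hSec.nd (by omega) (by rw [hU]; exact ⟨m - 1, by omega⟩) (h.pp hr4) ⟨m - 2, by omega⟩
              (by omega) (by omega)).trans (Subgroup.card_dvd_of_le h7)).trans hSec.card_dvd
          obtain ⟨t1, ht1⟩ : ∃ t1, PP p (f * (m - 1)) t1 := by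
            refine exists_ppp h.prime h.pos (by omega) ?_ ?_
            · rintro ⟨h1, h3⟩
              have := hq7 (by omega)
              omega
            · intro b hb h3
              have : 2 * (m - 1) ≤ b * (m - 1) := Nat.mul_le_mul_right _ hb
              omega
          exact H96.Rg.minus_odd_no h hm hmo hP (hkx hmo) hq5 (fun h7 => hq7 (by omega)) hr0 hX0 hr2' hY2 hr4 h9 ht1 hx hx0 hxS
            hS2 hst hLX
    by_cases hc : (2 : F) = 0
    · obtain ⟨d, hd, h10⟩ := hSL.s10 hc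
      exact key d hd fun _ => h10
    · exact key 1 (one_dvd _) fun h7 => absurd h7 hc

end Cfsg.Agent.H964.Rg
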