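import Cfsg.Agent.H449.Reg.Fix
import Cfsg.Agent.H449.Reg.Abs

/-!
# S3691, sections 6, 7: the group induced on a section (helper964)

`H` a group of isometries of `Q` on `ι → F`; `U` nondegenerate, `R ≤ U^⊥` totally isotropic, `R` and `U ⊔ R` invariant under `H`:
`(U ⊔ R) / R ≅ U`.

* `Sec Q H U R`, `secG` : the group induced on `U`
* `Sec.exists_of_mem`, `Sec.polar_eq`, `Sec.le_O`, `Sec.lift`, `Sec.card_dvd`, `Sec.elt`, `Sec.dvd`
-/

set_option autoImplicit false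
set_option linter.unusedSectionVars false

namespace Cfsg.Agent.H964.Rg

open Module QuadraticMap Cfsg Cfsg.Geo Cfsg.Agent.LieClassical.OrthCore Cfsg.Agent.LieClassical.OrthTrans
  Cfsg.Agent.H454.Reg Cfsg.Agent.H884.El Cfsg.Agent.H955 Cfsg.Agent.H954.TSing Cfsg.Agent.H449.Reg
open Cfsg.Agent.H951 (fx cm Inv)
open Cfsg.Agent.LieClassical.OrthFinite (glEquiv glEquiv_apply)
open scoped MatrixGroups Matrix

universe v

variable {ι : Type} [Fintype ι] [DecidableEq ι] {F : Type v} [Field F] {Q : QuadraticForm F (ι → F)}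
  {H : Subgroup (GL ι F)} {U R : Submodule F (ι → F)}

/-- a section -/
structure Sec (Q : QuadraticForm F (ι → F)) (H : Subgroup (GL ι F)) (U R : Submodule F (ι → F)) : Prop where
  iso : H ≤ isometryGroup F (⇑Q)
  nd : Nondeg (res Q U)
  orth : ∀ a ∈ R, ∀ u ∈ U, polar Q a u = 0
  isot : ∀ a ∈ R, ∀ b ∈ R, polar Q a b = 0
  stR : H ≤ subspaceStabilizer R
  stU : H ≤ subspaceStabilizer (U ⊔ R)

theorem stab_apply {W : Submodule F (ι → F)} {g : GL ι F} (hg : g ∈ subspaceStabilizer W) {w : ι → F} (hw : w ∈ W) :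
    (g : Matrix ι ι F) *ᵥ w ∈ W := H884.OmegaGL.mem_subspaceStabilizer.1 hg w hw

theorem polar_mulVec (hH : H ≤ isometryGroup F (⇑Q)) {g : GL ι F} (hg : g ∈ H) (a b : ι → F) :
    polar Q ((g : Matrix ι ι F) *ᵥ a) ((g : Matrix ι ι F) *ᵥ b) = polar Q a b := by
  have hg' := hH hg
  rw [LieClassical.OrthFinite.mem_isometryGroup_iff] at hg'
  simp only [polar, ← Matrix.mulVec_add, hg']

theorem Q_mulVec (hH : H ≤ isometryGroup F (⇑Q)) {g : GL ι F} (hg : g ∈ H) (a : ι → F) :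
    Q ((g : Matrix ι ι F) *ᵥ a) = Q a := by
  have hg' := hH hg
  rw [LieClassical.OrthFinite.mem_isometryGroup_iff] at hg'
  exact hg' a

theorem inv_mulVec (g : GL ι F) (a : ι → F) : ((g⁻¹ : GL ι F) : Matrix ι ι F) *ᵥ ((g : Matrix ι ι F) *ᵥ a) = a := by
  rw [Matrix.mulVec_mulVec, ← Units.val_mul, inv_mul_cancel, Units.val_one, Matrix.one_mulVec]

theorem mulVec_inv (g : GL ι F) (a : ι → F) : (g : Matrix ι ι F) *ᵥ (((g⁻¹ : GL ι F) : Matrix ι ι F) *ᵥ a) = a := by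
  rw [Matrix.mulVec_mulVec, ← Units.val_mul, mul_inv_cancel, Units.val_one, Matrix.one_mulVec]

/-- `e` is induced by `h` -/
def Ind1 (U R : Submodule F (ι → F)) (h : GL ι F) (e : U ≃ₗ[F] U) : Prop :=
  ∀ u : U, (h : Matrix ι ι F) *ᵥ (u : ι → F) - (e u : U) ∈ R

theorem Ind1.one : Ind1 U R (1 : GL ι F) (1 : U ≃ₗ[F] U) := by
  intro u
  rw [Units.val_one, Matrix.one_mulVec]
  have : ((1 : U ≃ₗ[F] U) u : ι → F) = u := rfl
  rw [this, sub_self]
  exact R.zero_mem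

theorem Ind1.mul {a b : GL ι F} {d e : U ≃ₗ[F] U} (ha : a ∈ subspaceStabilizer R) (h1 : Ind1 U R a d) (h2 : Ind1 U R b e) :
    Ind1 U R (a * b) (d * e) := by
  intro u
  have h3 := stab_apply ha (h2 u)
  have h4 := h1 (e u)
  have h5 := R.add_mem h3 h4
  rw [Matrix.mulVec_sub] at h5
  have h6 : ((d * e) u : U) = d (e u) := rfl
  rw [h6, Units.val_mul, ← Matrix.mulVec_mulVec]
  convert h5 using 1
  abel

theorem Ind1.inv {a : GL ι F} {d : U ≃ₗ[F] U} (ha : a⁻¹ ∈ subspaceStabilizer R) (h1 : Ind1 U R a d) :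
    Ind1 U R a⁻¹ d⁻¹ := by
  intro u
  have h2 := h1 (d⁻¹ u)
  have h3 : d (d⁻¹ u) = u := by
    change (d * d⁻¹) u = u
    rw [mul_inv_cancel]; rfl
  rw [h3] at h2
  have h4 := stab_apply ha h2
  rw [Matrix.mulVec_sub, inv_mulVec] at h4
  have h5 := R.neg_mem h4
  rwa [neg_sub] at h5

theorem Ind1.pow {a : GL ι F} {d : U ≃ₗ[F] U} (ha : a ∈ subspaceStabilizer R) (h1 : Ind1 U R a d) (n : ℕ) :
    Ind1 U R (a ^ n) (d ^ n) := by
  induction n with
  | zero => exact Ind1.one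
  | succ n ih =>
    rw [pow_succ', pow_succ']
    exact Ind1.mul ha h1 ih

/-- the group induced on a section -/
def secG (hS : Sec Q H U R) : Subgroup (U ≃ₗ[F] U) where
  carrier := {e | ∃ h ∈ H, Ind1 U R h e}
  mul_mem' := by
    rintro a b ⟨h, hh, ha⟩ ⟨k, hk, hb⟩
    exact ⟨h * k, H.mul_mem hh hk, Ind1.mul (hS.stR hh) ha hb⟩
  one_mem' := ⟨1, H.one_mem, Ind1.one⟩
  inv_mem' := by
    rintro a ⟨h, hh, ha⟩
    exact ⟨h⁻¹, H.inv_mem hh, Ind1.inv (hS.stR (H.inv_mem hh)) ha⟩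

namespace Sec

variable (hS : Sec Q H U R)

theorem mem_iff {e : U ≃ₗ[F] U} : e ∈ secG hS ↔ ∃ h ∈ H, Ind1 U R h e := Iff.rfl

include hS

theorem inf : ∀ u ∈ U, u ∈ R → u = 0 := by
  intro u hu hr
  have h1 := hS.nd ⟨u, hu⟩ (fun w => by
    change polar Q u w = 0
    exact hS.orth u hr w w.2)
  exact congrArg Subtype.val h1

/-- elements of `H` induce elements of the section group -/
theorem exists_of_mem {h : GL ι F} (hh : h ∈ H) : ∃ e ∈ secG hS, Ind1 U R h e := by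
  classical
  have hc := isCompl_perp hS.nd
  let π : (ι → F) →ₗ[F] U := U.projectionOnto (perp Q U) hc
  have hπU : ∀ u : U, π u = u := fun u => Submodule.projectionOnto_apply_left hc u
  have hπR : ∀ a ∈ R, π a = 0 := fun a ha => by
    have h1 : a ∈ perp Q U := fun u hu => by
      rw [polar_comm]; exact hS.orth a ha u hu
    exact (Submodule.projectionOnto_apply_eq_zero_iff hc).2 h1
  let e0 : U →ₗ[F] U := π ∘ₗ (Matrix.toLin' (h : Matrix ι ι F)) ∘ₗ U.subtype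
  have he0 : ∀ u : U, (h : Matrix ι ι F) *ᵥ (u : ι → F) - (e0 u : U) ∈ R := by
    intro u
    have h1 : (h : Matrix ι ι F) *ᵥ (u : ι → F) ∈ U ⊔ R := stab_apply (hS.stU hh) (Submodule.mem_sup_left u.2)
    obtain ⟨a, ha, b, hb, hab⟩ := Submodule.mem_sup.1 h1
    have h2 : e0 u = ⟨a, ha⟩ := by
      change π ((Matrix.toLin' (h : Matrix ι ι F)) (u : ι → F)) = _
      rw [Matrix.toLin'_apply, ← hab, map_add, hπR b hb, add_zero]
      exact hπU ⟨a, ha⟩
    rw [h2, ← hab]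
    change a + b - a ∈ R
    rw [add_sub_cancel_left]
    exact hb
  have hinj : Function.Injective e0 := by
    rw [injective_iff_map_eq_zero]
    intro u hu
    have h1 := he0 u
    rw [hu] at h1
    have h2 : (h : Matrix ι ι F) *ᵥ (u : ι → F) ∈ R := by simpa using h1
    have h3 := stab_apply (hS.stR (H.inv_mem hh)) h2
    rw [inv_mulVec] at h3
    exact Subtype.ext (hS.inf u u.2 h3)
  have hbij : Function.Bijective e0 := ⟨hinj, LinearMap.injective_iff_surjective.1 hinj⟩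
  exact ⟨LinearEquiv.ofBijective e0 hbij, ⟨h, hh, he0⟩, he0⟩

theorem unique {h : GL ι F} {d e : U ≃ₗ[F] U} (h1 : Ind1 U R h d) (h2 : Ind1 U R h e) : d = e := by
  apply LinearEquiv.ext
  intro u
  have h3 := R.sub_mem (h2 u) (h1 u)
  have h4 : (h : Matrix ι ι F) *ᵥ (u : ι → F) - (e u : U) - ((h : Matrix ι ι F) *ᵥ (u : ι → F) - (d u : U)) =
      ((d u - e u : U) : ι → F) := by
    rw [Submodule.coe_sub]; abel
  rw [h4] at h3
  have h5 : d u - e u = 0 := Subtype.ext (hS.inf _ (d u - e u).2 h3)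
  exact sub_eq_zero.1 h5

theorem polar_ind {h : GL ι F} (hh : h ∈ H) {e : U ≃ₗ[F] U} (h1 : Ind1 U R h e) (u w : U) :
    polar (res Q U) (e u) (e w) = polar (res Q U) u w := by
  obtain ⟨a, ha⟩ : ∃ a, a = (h : Matrix ι ι F) *ᵥ (u : ι → F) - (e u : U) := ⟨_, rfl⟩
  obtain ⟨b, hb⟩ : ∃ b, b = (h : Matrix ι ι F) *ᵥ (w : ι → F) - (e w : U) := ⟨_, rfl⟩
  have haR : a ∈ R := by rw [ha]; exact h1 u
  have hbR : b ∈ R := by rw [hb]; exact h1 w
  have h2 : (h : Matrix ι ι F) *ᵥ (u : ι → F) = (e u : U) + a := by rw [ha]; abel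
  have h3 : (h : Matrix ι ι F) *ᵥ (w : ι → F) = (e w : U) + b := by rw [hb]; abel
  have h4 := polar_mulVec hS.iso hh (u : ι → F) (w : ι → F)
  rw [h2, h3, polar_add_left, polar_add_right, polar_add_right, hS.orth a haR _ (e w).2, hS.isot a haR b hbR,
    polar_comm Q ((e u : U) : ι → F) b, hS.orth b hbR _ (e u).2, add_zero, add_zero, add_zero] at h4
  exact h4

theorem polar_eq : ∀ e ∈ secG hS, ∀ u w : U, polar (res Q U) (e u) (e w) = polar (res Q U) u w := by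
  rintro e ⟨h, hh, h1⟩ u w
  exact hS.polar_ind hh h1 u w

theorem le_O (hR : ∀ a ∈ R, Q a = 0) : secG hS ≤ O (res Q U) := by
  rintro e ⟨h, hh, h1⟩
  rw [mem_O]
  intro u
  obtain ⟨a, ha⟩ : ∃ a, a = (h : Matrix ι ι F) *ᵥ (u : ι → F) - (e u : U) := ⟨_, rfl⟩
  have haR : a ∈ R := by rw [ha]; exact h1 u
  have h2 : (h : Matrix ι ι F) *ᵥ (u : ι → F) = (e u : U) + a := by rw [ha]; abel
  have h4 := Q_mulVec hS.iso hh (u : ι → F)
  rw [h2, Q_add, hR a haR, polar_comm, hS.orth a haR _ (e u).2, add_zero, add_zero] at h4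
  exact h4

/-- invariant subspaces lift -/
theorem lift {W : Submodule F U} (hW : ∀ e ∈ secG hS, ∀ w ∈ W, e w ∈ W) :
    H ≤ subspaceStabilizer (W.map U.subtype ⊔ R) := by
  intro h hh
  refine H884.OmegaGL.mem_subspaceStabilizer.2 fun w hw => ?_
  rw [glEquiv_apply]
  obtain ⟨a, ⟨a', ha', rfl⟩, b, hb, rfl⟩ := Submodule.mem_sup.1 hw
  obtain ⟨e, he, h1⟩ := hS.exists_of_mem hh
  rw [Matrix.mulVec_add]
  have h2 := h1 a'
  have h3 : (h : Matrix ι ι F) *ᵥ (a' : ι → F) = (e a' : U) + ((h : Matrix ι ι F) *ᵥ (a' : ι → F) - (e a' : U)) := by abel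
  have h4 : (U.subtype a') = (a' : ι → F) := rfl
  rw [h4, h3, add_assoc]
  exact Submodule.add_mem_sup ⟨e a', hW e he a' ha', rfl⟩ (R.add_mem h2 (stab_apply (hS.stR hh) hb))

/-- the homomorphism onto the section group -/
theorem card_dvd [Finite F] : Nat.card (secG hS) ∣ Nat.card H := by
  classical
  choose f hf1 hf2 using fun h : H => hS.exists_of_mem h.2
  let φ : H →* secG hS :=
    { toFun := fun h => ⟨f h, hf1 h⟩
      map_one' := Subtype.ext (hS.unique (hf2 1) Ind1.one)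
      map_mul' := fun a b => Subtype.ext (hS.unique (hf2 (a * b)) (Ind1.mul (hS.stR a.2) (hf2 a) (hf2 b))) }
  have hφ : Function.Surjective φ := by
    rintro ⟨e, h, hh, he⟩
    exact ⟨⟨h, hh⟩, Subtype.ext (hS.unique (hf2 ⟨h, hh⟩) he)⟩
  exact Subgroup.card_dvd_of_surjective φ hφ

variable [Fintype F]

/-- elements of prime power order -/
theorem elt {k r a : ℕ} (hr : PP (Nat.card F) k r) (hk : 2 ≤ k) (hU : Fintype.card ι < finrank F U + k)
    (hR : finrank F R < k) {h : GL ι F} (hh : h ∈ H) (ho : orderOf h = r ^ a) (ha : a ≠ 0) :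
    ∃ e ∈ secG hS, Ind1 U R h e ∧ orderOf e = r ^ a := by
  have := Fact.mk hr.prime
  obtain ⟨e, he, h1⟩ := hS.exists_of_mem hh
  refine ⟨e, he, h1, ?_⟩
  obtain ⟨b, rfl⟩ : ∃ b, a = b + 1 := ⟨a - 1, by omega⟩
  have h2 : e ^ r ^ (b + 1) = 1 := by
    refine hS.unique (h := h ^ r ^ (b + 1)) (Ind1.pow (hS.stR hh) h1 _) ?_
    rw [← ho, pow_orderOf_eq_one]
    exact Ind1.one
  refine orderOf_eq_prime_pow (fun h3 => ?_) h2
  -- the element of order `r`
  have h4 : Ind1 U R (h ^ r ^ b) 1 := by rw [← h3]; exact Ind1.pow (hS.stR hh) h1 _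
  have h5 : (h ^ r ^ b) ^ r = 1 := by rw [← pow_mul, ← pow_succ, ← ho, pow_orderOf_eq_one]
  have h6 : h ^ r ^ b ≠ 1 := by
    intro h7
    have h8 := orderOf_dvd_of_pow_eq_one h7
    rw [ho] at h8
    have := (Nat.pow_dvd_pow_iff_le_right hr.prime.one_lt).1 h8
    omega
  have hmem : h ^ r ^ b ∈ H := H.pow_mem hh _
  have hlin : (lin (h ^ r ^ b)) ^ r = 1 := by rw [← H251.GeoCard.toLin_pow, h5]; exact lin_one
  have hiso : Iso Q (lin (h ^ r ^ b)) r := Iso.mk' hr hk hlin (lin_iso hS.iso hmem)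
  have hRf : R ≤ fx (lin (h ^ r ^ b)) := hiso.le_fx hr (inv_of_mem (hS.stR hmem)) hR
  have hUf : U ≤ fx (lin (h ^ r ^ b)) := by
    intro u hu
    have h7 := h4 ⟨u, hu⟩
    have h8 : lin (h ^ r ^ b) u - u ∈ R := by
      rw [lin, Matrix.toLin'_apply]; exact h7
    have h9 : lin (h ^ r ^ b) u - u ∈ fx (lin (h ^ r ^ b)) ⊓ cm (lin (h ^ r ^ b)) :=
      ⟨hRf h8, H951.mem_cm.2 ⟨u, rfl⟩⟩
    rw [(H951.isCompl_fx_cm hiso.ne0 hiso.pow).inf_eq_bot, Submodule.mem_bot, sub_eq_zero] at h9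
    exact H951.mem_fx.2 h9
  have h10 := Submodule.finrank_mono hUf
  have h11 := hiso.finrank_add
  rw [Module.finrank_fintype_fun_eq_card] at h11
  have h12 := hiso.dvd_cm hr
  have h13 : finrank F (cm (lin (h ^ r ^ b))) ≠ 0 := fun h0 =>
    cm_ne_bot (lin_ne_one h6) (Submodule.finrank_eq_zero.1 h0)
  have h14 := Nat.le_of_dvd (Nat.pos_of_ne_zero h13) h12
  omega

theorem dvd {k r : ℕ} (hr : PP (Nat.card F) k r) (hk : 2 ≤ k) (hU : Fintype.card ι < finrank F U + k)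
    (hR : finrank F R < k) (hd : r ∣ Nat.card H) : r ∣ Nat.card (secG hS) := by
  have := Fact.mk hr.prime
  have hfin : Finite (GL ι F) := inferInstance
  obtain ⟨⟨h, hh⟩, ho⟩ := exists_prime_orderOf_dvd_card' r hd
  rw [Subgroup.orderOf_mk] at ho
  obtain ⟨e, he, -, h2⟩ := hS.elt (a := 1) hr hk hU hR hh (by rw [ho, pow_one]) one_ne_zero
  rw [pow_one] at h2
  have hfin : Finite (U ≃ₗ[F] U) := by
    have : Finite U := inferInstance
    exact Finite.of_injective (fun e : U ≃ₗ[F] U => (e : U → U)) DFunLike.coe_injective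
  rw [← h2, ← Subgroup.orderOf_mk e he]
  exact orderOf_dvd_natCard _

/-- **the section group is irreducible** -/
theorem irr (hQ : Nondeg Q) {k r : ℕ} (hr : PP (Nat.card F) k r) (hk : 2 ≤ k) (hn : Fintype.card ι < 2 * k) {x : GL ι F}
    (hx : x ∈ H) (hxr : x ^ r = 1) (hx1 : x ≠ 1) {S : Submodule F (ι → F)} (hUS : U ⊔ R = perp Q S)
    (hmax : ∀ W : Submodule F (ι → F), H ≤ subspaceStabilizer W → finrank F W < k → W ≤ S)
    (hcap : ∀ u ∈ U, u ∈ S → u = 0) :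
    ¬ ∃ W : Submodule F U, W ≠ ⊥ ∧ W ≠ ⊤ ∧ ∀ e ∈ secG hS, ∀ w ∈ W, e w ∈ W := by
  rintro ⟨W, hW0, hW1, hW⟩
  have hlin : (lin x) ^ r = 1 := by rw [← H251.GeoCard.toLin_pow, hxr]; exact lin_one
  have hiso : Iso Q (lin x) r := Iso.mk' hr hk hlin (lin_iso hS.iso hx)
  obtain ⟨-, hcm, hor, -⟩ := elt_data hr hk hn hlin (lin_ne_one hx1)
  have h1 := hS.lift hW
  have hadd := hiso.finrank_add
  rw [Module.finrank_fintype_fun_eq_card] at hadd
  rcases hor _ (inv_of_mem (h1 hx)) with h2 | h2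
  · have h3 := Submodule.finrank_mono h2
    have h4 := hmax _ h1 (by omega)
    apply hW0
    rw [Submodule.eq_bot_iff]
    intro w hw
    exact Subtype.ext (hcap w w.2 (h4 (Submodule.mem_sup_left ⟨w, hw, rfl⟩)))
  · have h3 : perp Q (W.map U.subtype ⊔ R) ≤ fx (lin x) := by
      rw [← perp_cm hQ hiso.iso hiso.ne0 hiso.pow]
      exact perp_anti h2
    have h4 := Submodule.finrank_mono h3
    have h5 := hmax _ (stab_perp hS.iso h1) (by omega)
    have h6 := perp_anti (Q := Q) h5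
    rw [perp_perp hQ, ← hUS] at h6
    apply hW1
    rw [eq_top_iff]
    intro u _
    obtain ⟨_, ⟨w, hw, rfl⟩, b, hb, hab⟩ := Submodule.mem_sup.1 (h6 (Submodule.mem_sup_left u.2))
    have h7 : ((u - w : U) : ι → F) ∈ R := by
      have : ((u - w : U) : ι → F) = b := by
        rw [Submodule.coe_sub, ← hab]
        change (w : ι → F) + b - w = b
        rw [add_sub_cancel_left]
      rw [this]; exact hb
    have h8 : u - w = 0 := Subtype.ext (hS.inf _ (u - w).2 h7)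
    rw [sub_eq_zero.1 h8]
    exact hw

end Sec

end Cfsg.Agent.H964.Rg
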